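import Cfsg.Agent.Lib.Known.E6Fi22.Gens
import Cfsg.Agent.Lib.Known.E6Fi22.Packed
import Cfsg.Agent.Lib.Chev.E6Five.AltData

/-!
# The words of six elements of order three and their relations
-/

set_option autoImplicit false
set_option maxRecDepth 100000

namespace CfsgLib.Chev.E6Five

open CfsgLib.Chev.E6Fi22 (goodL wordOk genCols)
open CfsgLib.Fi22P.Cols (ap idc)

/-- The relations: cubes, squares of products, and commutation with the seventh element. -/
def a8Rels : List (List ℕ) :=
  ((List.range 6).map fun i => [i, i, i]) ++
    ((List.range 6).flatMap fun i => ((List.range 6).filter fun j => !Nat.beq i j).map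
      fun j => [j, i, j, i]) ++
    (List.range 6).map fun i => [6, 6, 6, 6, i, i, 6, i]

theorem a8_lengths : (Nat.beq genCols.length 16 && Nat.beq a8Cols.length 7 &&
    Nat.beq a8Words.length 7 && a8Words.all (fun w => w.all fun g => Nat.blt g 16) &&
    genCols.all goodL && a8Cols.all goodL && goodL (idc 156) &&
    a8Rels.all (fun w => w.all fun g => Nat.blt g 7)) = true := by decide +kernel

theorem a8_words : (List.range 7).all (fun i =>
    wordOk genCols (idc 156) (a8Words.getD i []) (a8Cols.getD i [])) = true := by decide +kernel

theorem a8_rels : a8Rels.all (fun w => wordOk a8Cols (idc 156) w (idc 156)) = true := by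
  decide +kernel

theorem a8_moved : Nat.beq (2 ^ 2) (ap (a8Cols.getD 0 []) (2 ^ 2)) = false := by decide +kernel

end CfsgLib.Chev.E6Five
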