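import Cfsg.Agent.Lib.Chev.E6Five.Twist

/-!
# Fixed points of the element of order five on the positive unipotent subgroup

Over an algebraic closure the element is diagonal; hence a positive unipotent element commuting
with it has coordinates only at the roots orthogonal to both end nodes.
-/

set_option autoImplicit false
set_option maxRecDepth 100000
set_option Elab.async false

namespace CfsgLib.Chev.E6Five

open Cfsg.Lie CfsgLib.Chev CfsgLib.Chev.TwE6
open scoped MatrixGroups

universe v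

variable {K : Type v} [Field K] {L : Type v} [Field L] (φ : K →+* L)

/-- The change of field. -/
noncomputable def ext : GL chevE6.Idx K →* GL chevE6.Idx L :=
  Units.map (RingHom.mapMatrix φ :
    Matrix chevE6.Idx chevE6.Idx K →+* Matrix chevE6.Idx chevE6.Idx L).toMonoidHom

theorem ext_injective : Function.Injective (ext φ) := fun a b h => by
  refine Units.ext (Matrix.ext fun i j => φ.injective ?_)
  exact congrArg (fun g : GL chevE6.Idx L => (g : Matrix chevE6.Idx chevE6.Idx L) i j) h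

theorem ext_xU {r : ℕ} (hr : r < 72) (t : K) :
    ext φ (xU chevE6 r t) = xU chevE6 r (φ t) := by
  refine Units.ext ?_
  rw [fE.xU_val' (lt_nr hr), ← xR_map φ r t, ← fE.xU_val' (lt_nr hr)]
  rfl

theorem ext_wU {w : List (ℕ × K)} (hw : ∀ p ∈ w, p.1 < 72) :
    ext φ (wU chevE6 w) = wU chevE6 (w.map fun p => (p.1, φ p.2)) := by
  induction w with
  | nil => simp [wU]
  | cons p w ih =>
    rw [wU_cons, map_mul, ih (fun q hq => hw q (List.mem_cons_of_mem _ hq)),
      ext_xU φ (hw p List.mem_cons_self), List.map_cons, wU_cons]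

theorem map_loT' (t : K) : Matrix.SpecialLinearGroup.map φ (loT t) = loT (φ t) := by
  refine Subtype.ext ?_
  ext i j
  show φ ((loT t : SL(2, K)) i j) = (loT (φ t) : SL(2, L)) i j
  fin_cases i <;> fin_cases j <;> simp [loT]

theorem map_upM' (t : K) : Matrix.SpecialLinearGroup.map φ (upM t) = upM (φ t) := by
  refine Subtype.ext ?_
  ext i j
  show φ ((upM t : SL(2, K)) i j) = (upM (φ t) : SL(2, L)) i j
  fin_cases i <;> fin_cases j <;> simp [upM]

theorem ext_phiR {r : ℕ} (hr : r < 72) (g : SL(2, K)) :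
    ext φ (phiR r hr g) = phiR r hr (Matrix.SpecialLinearGroup.map φ g) := by
  have hn : chevE6.neg r < 72 := nr ▸ fE.neg_lt (lt_nr hr)
  induction g using sl2_induction with
  | one => simp
  | mul x y hx hy => rw [map_mul, map_mul, hx, hy, map_mul, map_mul]
  | up t => rw [map_upM', phiR_up, phiR_up, ext_xU φ hr]
  | lo t => rw [map_loT', phiR_lo, phiR_lo, ext_xU φ hn]

theorem ext_pair (p : SL(2, K) × SL(2, K)) :
    ext φ (pairHom p) = pairHom (Matrix.SpecialLinearGroup.map φ p.1,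
      Matrix.SpecialLinearGroup.map φ p.2) := by
  obtain ⟨a, b⟩ := p
  rw [pairHom_apply, pairHom_apply, map_mul, ext_phiR, ext_phiR]

section Alg

variable {ω ζ : L}

/-- A companion matrix of a quadratic with distinct roots is diagonalisable. -/
theorem exists_diag (h2 : (2 : L) = 0) (hω : ω ≠ 0) (hζ : ζ ^ 2 + ω * ζ + 1 = 0)
    {M : SL(2, L)} (hM : (M : Matrix (Fin 2) (Fin 2) L) = !![0, 1; 1, ω]) :
    ∃ Q : SL(2, L), M * Q = Q * dM ζ := by
  have h0 : ζ ≠ 0 := fun h => by simp [h] at hζ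
  have hinv : ζ⁻¹ = ζ + ω := by
    refine inv_eq_of_mul_eq_one_right ?_
    linear_combination hζ - h2
  refine ⟨⟨!![ω⁻¹, 1; ω⁻¹ * ζ, ζ + ω], ?_⟩, Subtype.ext ?_⟩
  · rw [Matrix.det_fin_two_of]; field_simp; ring
  · show (M : Matrix (Fin 2) (Fin 2) L) * !![ω⁻¹, 1; ω⁻¹ * ζ, ζ + ω] =
      !![ω⁻¹, 1; ω⁻¹ * ζ, ζ + ω] * ((dM ζ : SL(2, L)) : Matrix (Fin 2) (Fin 2) L)
    rw [hM, dM_val h0, hinv]
    rw [Matrix.mul_fin_two, Matrix.mul_fin_two]
    ext i j
    fin_cases i <;> fin_cases j <;> simp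
    · field_simp
      linear_combination -hζ + (1 + ω * ζ) * h2
    · linear_combination -hζ + h2

theorem orderOf_root (h2 : (2 : L) = 0) (hω : ω ^ 2 + ω + 1 = 0) (hζ : ζ ^ 2 + ω * ζ + 1 = 0) :
    orderOf ζ = 5 := by
  haveI : Fact (Nat.Prime 5) := ⟨by norm_num⟩
  refine orderOf_eq_prime ?_ fun h => ?_
  · have e3 : ζ ^ 3 = ω * ζ + ω := by
      linear_combination (ζ - ω) * hζ + ζ * hω - ζ * (ω + 1) * h2
    linear_combination (ζ ^ 2 + ω) * e3 + ω * hζ + hω - (ω + 1) * h2
  · rw [h] at hζ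
    have : ω = 0 := by linear_combination hζ - h2
    rw [this] at hω
    simp at hω

end Alg

/-- The roots orthogonal to both end nodes. -/
abbrev Iso (r : ℕ) : Prop := r = 39 ∨ r = 46 ∨ r = 47 ∨ r = 69 ∨ r = 70 ∨ r = 71

theorem iso_tab : ∀ r, r < 72 → 36 ≤ r → ¬ Iso r →
    ¬ (5 : ℤ) ∣ prE chevE6 56 r + 2 * prE chevE6 36 r := by decide +kernel

theorem iso_comm_tab : ∀ r ∈ [39, 46, 47, 69, 70, 71], ∀ s ∈ [15, 35, 36, 56],
    s ≠ r ∧ s ≠ chevE6.neg r ∧ chevE6.commTerms r s = [] := by decide +kernel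

theorem iso_rho_tab : ∀ r ∈ [39, 46, 47, 69, 70, 71],
    parE6.rho r = r ∧ parE6.eps r = 1 := by decide +kernel

theorem iso_commute {K : Type v} [Field K] {r : ℕ} (h : Iso r) (t : K)
    (p : SL(2, K) × SL(2, K)) : Commute (xU chevE6 r t) (pairHom p) := by
  have hle : rootClosure chevE6 K Lev ≤ Subgroup.centralizer {xU chevE6 r t} := by
    refine (Subgroup.closure_le _).2 ?_
    rintro x ⟨s, u, -, hs, rfl⟩
    have hr : r ∈ [39, 46, 47, 69, 70, 71] := by rcases h with h | h | h | h | h | h <;> simp [h]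
    have hs' : s ∈ [15, 35, 36, 56] := by rcases hs with h | h | h | h <;> simp [h]
    obtain ⟨a, b, c⟩ := iso_comm_tab r hr s hs'
    refine Subgroup.mem_centralizer_singleton_iff.2 ?_
    exact (xU_comm_of_tab (by rcases h with h | h | h | h | h | h <;> omega)
      (by rcases hs with h | h | h | h <;> omega) a b c t u).symm.eq
  exact (Subgroup.mem_centralizer_singleton_iff.1 (hle (pairHom_lev p))).symm

/-- Conjugation of a word by an element acting by characters. -/
theorem conj_wU {K : Type v} [Field K] {g : GL chevE6.Idx K} (χ : ℕ → K)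
    (hg : ∀ r < 72, ∀ t : K, g * xU chevE6 r t * g⁻¹ = xU chevE6 r (χ r * t)) :
    ∀ (L : List ℕ) (t : ℕ → K), (∀ r ∈ L, r < 72) →
      g * wU chevE6 (L.map fun r => (r, t r)) * g⁻¹ =
        wU chevE6 (L.map fun r => (r, χ r * t r))
  | [], t, _ => by simp [wU]
  | r :: L, t, h => by
    rw [List.map_cons, List.map_cons, wU_cons, wU_cons,
      ← hg r (h r List.mem_cons_self), ← conj_wU χ hg L t fun s hs => h s (List.mem_cons_of_mem _ hs)]
    group

/-- A closed set of positive roots. -/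
def Closed (P : ℕ → Prop) : Prop :=
  ∀ i < 72, ∀ j < 72, P i → P j → ∀ c ∈ chevE6.commTerms i j, P c.1

theorem exists_supported {K : Type v} [Field K] {P : ℕ → Prop} (hP : ∀ r < 72, P r → 36 ≤ r)
    (hC : Closed P) : ∀ {m k : ℕ}, k + m = 72 → 36 ≤ k → ∀ {g : GL chevE6.Idx K},
      g ∈ rootClosure chevE6 K (fun r => P r ∧ k ≤ r) →
      ∃ t : ℕ → K, (∀ r, ¬ P r → t r = 0) ∧
        g = wU chevE6 ((List.range' k m).map fun r => (r, t r)) := by
  intro m
  induction m with
  | zero =>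
    intro k hk _ g hg
    refine ⟨0, fun _ _ => rfl, ?_⟩
    have : rootClosure chevE6 K (fun r => P r ∧ k ≤ r) = ⊥ := by
      rw [eq_bot_iff]
      refine (Subgroup.closure_le _).2 ?_
      rintro x ⟨r, t, hr, ⟨-, hkr⟩, -⟩
      rw [nr] at hr
      omega
    rw [this, Subgroup.mem_bot] at hg
    simp [hg, wU]
  | succ m ih =>
    intro k hk hp g hg
    have hk72 : k < 72 := by omega
    obtain ⟨a, ha, c, hc, e⟩ := fE.closure_split (K := K) cE (A := fun r => P r ∧ k ≤ r)
      (Q₁ := fun r => P r ∧ k + 1 ≤ r) (Q₂ := fun r => P r ∧ r = k)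
      (fun r _ h => by
        rcases Nat.eq_or_lt_of_le h.2 with h' | h'
        · exact Or.inr ⟨h.1, h'.symm⟩
        · exact Or.inl ⟨h.1, h'⟩)
      (fun i hi hQ j hj hP' => by
        obtain ⟨hPi, rfl⟩ := hQ
        refine ⟨fun e => ?_, fun _ c hc => ⟨hC i hk72 j (nr ▸ hj) hPi hP'.1 c hc, ?_⟩⟩
        · have := fE.neg_eq i hi
          rw [nr] at this
          omega
        · have hh : chevE6.nroots / 2 = 36 := by rw [nr]
          have := (fE.commTerms_lt hi hj (hh ▸ hp) (hh ▸ (hP'.2.trans' (by omega))) hc).2.1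
          omega)
      (Subgroup.inv_mem _ hg)
    obtain ⟨u, hu0, rfl⟩ : ∃ u : K, (¬ P k → u = 0) ∧ c = xU chevE6 k u := by
      by_cases hPk : P k
      · have hc' : c ∈ rootClosure chevE6 K (· = k) := rootClosure_mono (fun r _ h => h.2) hc
        rw [← fE.rootSubgroup_eq (lt_nr hk72)] at hc'
        obtain ⟨u, rfl⟩ := (fE.mem_rootSubgroup_iff (lt_nr hk72)).1 hc'
        exact ⟨u, fun h => absurd hPk h, rfl⟩
      · have : rootClosure chevE6 K (fun r => P r ∧ r = k) = ⊥ := by
          rw [eq_bot_iff]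
          refine (Subgroup.closure_le _).2 ?_
          rintro x ⟨r, t, -, ⟨hr, rfl⟩, -⟩
          exact absurd hr hPk
        rw [this, Subgroup.mem_bot] at hc
        exact ⟨0, fun _ => rfl, by rw [hc, fE.xU_zero (lt_nr hk72)]⟩
    obtain ⟨t, ht0, e'⟩ := ih (k := k + 1) (by omega) (by omega) (Subgroup.inv_mem _ ha)
    refine ⟨Function.update t k (-u), fun r hr => ?_, ?_⟩
    · rcases eq_or_ne r k with rfl | hne
      · rw [Function.update_self, hu0 hr, neg_zero]
      · rw [Function.update_of_ne hne]; exact ht0 r hr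
    · rw [List.range'_succ, List.map_cons, wU_cons]
      simp only [Function.update_self]
      rw [← inv_inv g, e, mul_inv_rev, ← fE.xU_inv (lt_nr hk72), e']
      congr 2
      refine List.map_congr_left fun r hr => ?_
      rw [List.mem_range'_1] at hr
      rw [Function.update_of_ne (by omega)]

/-- Coordinates of a positive unipotent element commuting with the element of order five. -/
theorem coords_of_commute {K : Type v} [Field K] [Fintype K] (C : TwE6.Ctx K 2)
    (C4 : CfsgLib.J3.Fld K) {P : ℕ → Prop} (hR : ∀ r < 72, P r → Rad r) (hC : Closed P)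
    {u : GL chevE6.Idx K} (hu : u ∈ rootClosure chevE6 K P) (hf : u ∈ fixS C.σ)
    (hx : Commute (xF C C4) u) :
    ∃ t : ℕ → K, u = wU chevE6 ((List.range' 36 36).map fun r => (r, t r)) ∧
      (∀ r, 36 ≤ r → r < 72 → ¬ (P r ∧ Iso r) → t r = 0) ∧
      ∀ r, 36 ≤ r → r < 72 → t r = 0 ∨ t r = 1 := by
  classical
  have hn : chevE6.nroots = 72 := nr
  have hlt : ∀ r ∈ List.range' 36 36, r < 72 := fun r hr => by
    rw [List.mem_range'_1] at hr; omega
  obtain ⟨t, ht0, rfl⟩ := exists_supported (m := 36) (k := 36) (fun r hr h => (hR r hr h).1) hC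
    rfl le_rfl (rootClosure_mono (fun r hr h => ⟨h, (hR r (hn ▸ hr) h).1⟩) hu)
  let L := AlgebraicClosure K
  let φ : K →+* L := algebraMap K L
  set ω : L := φ C4.ω with hω
  have h2 : (2 : L) = 0 := by rw [← map_ofNat φ 2, C4.two, map_zero]
  have hω2 : ω ^ 2 + ω + 1 = 0 := by simpa using congrArg φ C4.root
  have hω0 : ω ≠ 0 := (map_ne_zero φ).2 (om_ne_zero C4)
  obtain ⟨ζ, hζ⟩ : ∃ ζ : L, ζ ^ 2 + ω * ζ + 1 = 0 := by
    obtain ⟨ζ, hζ⟩ := IsAlgClosed.exists_root
      (Polynomial.X ^ 2 + Polynomial.C ω * Polynomial.X + 1 : Polynomial L)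
      (by
        have hd : (Polynomial.X ^ 2 + Polynomial.C ω * Polynomial.X + 1 : Polynomial L).degree = 2 := by
          compute_degree!
        rw [hd]; norm_num)
    exact ⟨ζ, by simpa using hζ⟩
  have hζ5 := orderOf_root h2 hω2 hζ
  have hζ0 : ζ ≠ 0 := fun h => by simp [h] at hζ
  have hw2 : (ω * ω) ^ 2 + ω * ω + 1 = 0 := by
    linear_combination (ω ^ 2 - ω + 1) * hω2
  obtain ⟨Q, hQ⟩ := exists_diag h2 hω0 hζ (M := Matrix.SpecialLinearGroup.map φ (mFive C4)) (by
    ext i j
    show φ ((mFive C4 : SL(2, K)) i j) = _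
    fin_cases i <;> fin_cases j <;> simp [mFive, hω])
  obtain ⟨R, hQ'⟩ := exists_diag h2 (mul_ne_zero hω0 hω0) (ζ := ζ * ζ)
    (by linear_combination (ζ ^ 2 - ω * ζ + 1) * hζ + (ω * ω * ζ * ζ - ζ * ζ) * h2)
    (M := Matrix.SpecialLinearGroup.map φ (Matrix.SpecialLinearGroup.map C.f (mFive C4))) (by
    ext i j
    show φ (C.f ((mFive C4 : SL(2, K)) i j)) = _
    fin_cases i <;> fin_cases j <;> simp [mFive, hω, C.hf, pow_two])
  set y : GL chevE6.Idx L := pairHom (Q, R) with hy
  set d : GL chevE6.Idx L := pairHom (dM ζ, dM (ζ * ζ)) with hd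
  have hxy : ext φ (xF C C4) * y = y * d := by
    rw [xF, phiT_apply, ext_pair, hy, hd, ← map_mul, ← map_mul, Prod.mk_mul_mk, Prod.mk_mul_mk,
      hQ, hQ']
  let χ : ℕ → L := fun r => ζ ^ (prE chevE6 56 r + 2 * prE chevE6 36 r)
  have hdc : ∀ r < 72, ∀ s : L, d * xU chevE6 r s * d⁻¹ = xU chevE6 r (χ r * s) := by
    intro r hr s
    rw [hd, pairHom_apply, phiR_dM, phiR_dM]
    have h1 := fE.hU_conj_xU (F := L) (lt_nr (show 36 < 72 by norm_num)) (lt_nr hr)
      (Units.mk0 (ζ * ζ) (mul_ne_zero hζ0 hζ0)) s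
    have h2' := fE.hU_conj_xU (F := L) (lt_nr (show 56 < 72 by norm_num)) (lt_nr hr)
      (Units.mk0 ζ hζ0)
      ((((Units.mk0 (ζ * ζ) (mul_ne_zero hζ0 hζ0)) ^ prE chevE6 36 r : Lˣ) : L) * s)
    rw [← h1] at h2'
    simp only [Units.val_zpow_eq_zpow_val, Units.val_mk0] at h2'
    rw [show χ r * s = ζ ^ prE chevE6 56 r * ((ζ * ζ) ^ prE chevE6 36 r * s) by
      simp only [χ]
      rw [← mul_assoc, zpow_add₀ hζ0, zpow_mul, zpow_ofNat, pow_two], ← h2']
    group
  have hiso : ∀ r, Iso r → χ r = 1 := fun r hr => by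
    have h : prE chevE6 56 r + 2 * prE chevE6 36 r = 0 :=
      (show ∀ r ∈ [39, 46, 47, 69, 70, 71], prE chevE6 56 r + 2 * prE chevE6 36 r = 0 by
        decide +kernel) r (by rcases hr with h | h | h | h | h | h <;> simp [h])
    simp only [χ, h, zpow_zero]
  have hE : ext φ (wU chevE6 ((List.range' 36 36).map fun r => (r, t r))) =
      wU chevE6 ((List.range' 36 36).map fun r => (r, φ (t r))) := by
    rw [ext_wU φ (fun p hp => by
      obtain ⟨r, hr, rfl⟩ := List.mem_map.1 hp
      exact hlt r hr), List.map_map]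
    rfl
  set uL := ext φ (wU chevE6 ((List.range' 36 36).map fun r => (r, t r))) with huL
  set u' := y⁻¹ * uL * y with hu'
  have hd' : d = y⁻¹ * ext φ (xF C C4) * y := by rw [mul_assoc, hxy, inv_mul_cancel_left]
  have hcom : d * u' * d⁻¹ = u' := by
    have h : ext φ (xF C C4) * uL = uL * ext φ (xF C C4) := (hx.map (ext φ)).eq
    rw [hu', hd']
    calc _ = y⁻¹ * (ext φ (xF C C4) * uL * (ext φ (xF C C4))⁻¹) * y := by group
      _ = _ := by rw [h, mul_inv_cancel_right]
  -- the coordinates at 36 and 56 vanish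
  have hlev : ∀ r, r < 72 → ¬ Iso r → 36 ≤ r → χ r ≠ 1 := fun r hr hi h36 h => by
    refine iso_tab r hr h36 hi ?_
    simp only [χ] at h
    have h5 := (orderOf_dvd_iff_zpow_eq_one (x := Units.mk0 ζ hζ0)
      (i := prE chevE6 56 r + 2 * prE chevE6 36 r)).2 (Units.ext (by simpa using h))
    rwa [← orderOf_units, Units.val_mk0, hζ5] at h5
  have huR : uL ∈ rootClosure chevE6 L Rad := by
    rw [hE]
    refine wU_mem fun p hp => ?_
    obtain ⟨r, hr, rfl⟩ := List.mem_map.1 hp
    by_cases h : P r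
    · exact xU_mem_rootClosure (lt_nr (hlt r hr)) (hR r (hlt r hr) h) _
    · rw [ht0 r h, map_zero, fE.xU_zero (lt_nr (hlt r hr))]
      exact Subgroup.one_mem _
  have hu'R : u' ∈ rootClosure chevE6 L Rad := by
    have := conj_rad (Subgroup.inv_mem _ (pairHom_lev (Q, R))) huR
    rwa [inv_inv] at this
  obtain ⟨t', ht'⟩ := fE.exists_ordered (K := L) cE (m := 36) (k := 36) (by rw [hn])
    (by rw [hn]) (rootClosure_mono (fun r _ h => h.1) hu'R)
  have ht'0 : ∀ r, 36 ≤ r → r < 72 → ¬ Iso r → t' r = 0 := by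
    intro r h36 hr hi
    rw [ht', conj_wU χ hdc _ _ hlt] at hcom
    have := fE.ordered_unique (K := L) (m := 36) (k := 36) (by rw [hn]) (by rw [hn]) hcom r h36
      (lt_nr hr)
    have h2 : (χ r - 1) * t' r = 0 := by linear_combination this
    exact (mul_eq_zero.1 h2).resolve_left (sub_ne_zero.2 (hlev r hr hi h36))
  have hfix : y * u' * y⁻¹ = u' := by
    have hmem : u' ∈ Subgroup.centralizer {y} := by
      rw [ht']
      refine wU_mem fun p hp => ?_
      obtain ⟨r, hr, rfl⟩ := List.mem_map.1 hp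
      have hr' := List.mem_range'_1.1 hr
      refine Subgroup.mem_centralizer_singleton_iff.2 ?_
      by_cases hi : Iso r
      · exact (iso_commute hi (t' r) (Q, R)).eq
      · rw [ht'0 r hr'.1 (hlt r hr) hi, fE.xU_zero (lt_nr (hlt r hr))]
        simp
    rw [← Subgroup.mem_centralizer_singleton_iff.1 hmem, mul_inv_cancel_right]
  have huu : uL = u' := by
    have h : uL = y * u' * y⁻¹ := by rw [hu']; group
    rw [h, hfix]
  have heq : ∀ r, 36 ≤ r → r < 72 → φ (t r) = t' r := fun r h36 hr => by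
    rw [ht'] at huu
    rw [hE] at huu
    exact fE.ordered_unique (K := L) (m := 36) (k := 36) (by rw [hn]) (by rw [hn]) huu r h36
      (lt_nr hr)
  have hz : ∀ r, 36 ≤ r → r < 72 → ¬ (P r ∧ Iso r) → t r = 0 := fun r h36 hr h => by
    by_cases hi : Iso r
    · exact ht0 r fun hp => h ⟨hp, hi⟩
    · exact φ.injective (by rw [heq r h36 hr, ht'0 r h36 hr hi, map_zero])
  refine ⟨t, rfl, hz, fun r h36 hr => ?_⟩
  by_cases hi : Iso r
  swap
  · exact Or.inl (hz r h36 hr fun h => hi h.2)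
  obtain ⟨hfm, hfe⟩ := hf
  have himg : Img C.σ (wU chevE6 ((List.range' 36 36).map fun r => (r, t r)))
      (wU chevE6 ((List.range' 36 36).map fun r => (r, C.f (t r)))) := by
    rw [wU, wU, List.map_map, List.map_map]
    refine Img.list (fun r => xU chevE6 r (t r)) (fun r => xU chevE6 r (C.f (t r))) _ fun s hs => ?_
    have hs' := List.mem_range'_1.1 hs
    by_cases his : Iso s
    · obtain ⟨e1, e2⟩ := iso_rho_tab s (by rcases his with h | h | h | h | h | h <;> simp [h])
      exact img_root C (hlt s hs) e1 e2 (t s)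
    · rw [hz s hs'.1 (hlt s hs) fun h => his h.2, map_zero, fE.xU_zero (lt_nr (hlt s hs))]
      exact Img.one
  have hff := fE.ordered_unique (K := K) (m := 36) (k := 36) (by rw [hn]) (by rw [hn])
    (himg.unique ⟨hfm, hfe⟩) r h36 (lt_nr hr)
  rw [C.hf] at hff
  have h3 : t r * (t r - 1) = 0 := by linear_combination hff
  exact (mul_eq_zero.1 h3).imp id fun h => sub_eq_zero.1 h

end CfsgLib.Chev.E6Five
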