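import Cfsg.Agent.Lib.Chev.E6Five.Weyl
import Cfsg.Agent.Lib.Chev.E6Five.Ext

/-!
# The centraliser of the element of order five is small

The normal form with respect to the parabolic subgroup of the end nodes, and the count.
-/

set_option autoImplicit false
set_option maxRecDepth 100000
set_option Elab.async false

namespace CfsgLib.Chev.E6Five

open Cfsg.Lie CfsgLib.Chev CfsgLib.Chev.TwE6
open scoped MatrixGroups

universe v

variable {K : Type v} [Field K]

theorem half : chevE6.nroots / 2 = 36 := by rw [nr]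

/-- The root 56 as an element of the index type. -/
def e56 : Fin chevE6.nroots := ⟨56, lt_nr (by norm_num)⟩
/-- The root 36 as an element of the index type. -/
def e36 : Fin chevE6.nroots := ⟨36, lt_nr (by norm_num)⟩

theorem pairHom_up56 (t : K) : pairHom (upM t, 1) = xU chevE6 56 t := by
  rw [pairHom_apply, map_one, mul_one, phiR_up]

theorem pairHom_up36 (t : K) : pairHom (1, upM t) = xU chevE6 36 t := by
  rw [pairHom_apply, map_one, one_mul, phiR_up]

theorem pos_le_par : rootClosure chevE6 K (chevE6.nroots / 2 ≤ ·) ≤ Par := by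
  refine (Subgroup.closure_le _).2 ?_
  rintro _ ⟨r, t, hr, hp, rfl⟩
  rw [half] at hp
  by_cases h1 : r = 56
  · subst h1; rw [← pairHom_up56]; exact pairHom_mem_par _
  by_cases h2 : r = 36
  · subst h2; rw [← pairHom_up36]; exact pairHom_mem_par _
  exact rad_le_par (xU_mem_rootClosure hr ⟨hp, h2, h1⟩ t)

theorem rad_le_borel : rootClosure chevE6 K Rad ≤ chevE6.borelSubgroup K :=
  le_trans (rootClosure_mono fun r _ h => show chevE6.nroots / 2 ≤ r by rw [half]; exact h.1)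
    fE.pos_le_borel

theorem lev_oth_tab : ∀ i ∈ [15, 35, 36, 56], ∀ j < 72, Oth j →
    j ≠ chevE6.neg i ∧ (i ≠ j → ∀ c ∈ chevE6.commTerms i j, Oth c.1) := by decide +kernel

theorem conj_oth {g v : GL chevE6.Idx K} (hg : g ∈ rootClosure chevE6 K Lev)
    (hv : v ∈ rootClosure chevE6 K Oth) : g * v * g⁻¹ ∈ rootClosure chevE6 K Oth := by
  have h : rootClosure chevE6 K Lev ≤
      Subgroup.normalizer (rootClosure chevE6 K Oth : Set (GL chevE6.Idx K)) :=
    fE.le_normalizer_rootClosure cE fun i _ hQ j hj hP =>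
      lev_oth_tab i (by rcases hQ with rfl | rfl | rfl | rfl <;> simp) j (nr ▸ hj) hP
  exact (Subgroup.mem_normalizer_iff.1 (h hg) v).1 hv

theorem rad_closed : Closed Rad := by
  have h : (List.range 72).all (fun i => (List.range 72).all fun j =>
      !(decide (Rad i) && decide (Rad j)) ||
        (chevE6.commTerms i j).all fun c => decide (Rad c.1)) = true := by
    decide +kernel
  intro i hi j hj a b c hc
  simp only [List.all_eq_true, List.mem_range, Bool.or_eq_true, Bool.not_eq_true',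
    Bool.and_eq_false_iff, decide_eq_false_iff_not, decide_eq_true_eq] at h
  exact ((h i hi j hj).resolve_left (fun e => e.elim (fun f => f a) fun f => f b)) c hc

theorem word3 : (O (⟨3, by decide⟩ : Fin spec.length)).word.map Fin.val = [0, 5] ∧
    chevE6.simple 0 = 56 ∧ chevE6.simple 5 = 36 := by decide +kernel

/-- The orbit of the end nodes. -/
def o3 : Fin spec.length := ⟨3, by decide⟩

variable [Fintype K] (C : TwE6.Ctx K 2) (C4 : CfsgLib.J3.Fld K)

/-- The representative of the longest element of the Levi subgroup. -/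
noncomputable def ns : GL chevE6.Idx K := nW chevE6 K (O o3).word

theorem map_wM : Matrix.SpecialLinearGroup.map C.f (wM : SL(2, K)) = wM := by
  rw [wM_loT]
  simp [map_mul, map_upM, map_loT]

theorem ns_eq : (ns : GL chevE6.Idx K) = phiT C wM := by
  obtain ⟨h, h0, h5⟩ := word3
  rw [phiT_apply, map_wM, pairHom_apply, phiR_wM, phiR_wM, ns]
  have hl : ∃ a b, (O o3).word = [a, b] ∧ a.val = 0 ∧ b.val = 5 := by
    change List.map Fin.val (O o3).word = [0, 5] at h
    match hw : (O o3).word, h with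
    | [a, b], h => exact ⟨a, b, rfl, by simpa using h⟩
    | [], h => simp at h
    | [a], h => simp at h
    | a :: b :: c :: l, h => simp at h
  obtain ⟨a, b, e, ha, hb⟩ := hl
  rw [e, nW_cons, nW_cons, nW_nil, mul_one, nS, nS, ha, hb, h0, h5]

/-- The permutation of the orbit of the end nodes. -/
noncomputable abbrev sO : Equiv.Perm (Fin chevE6.nroots) := (O o3).wO

theorem sO_val (r : Fin chevE6.nroots) : (sO r).val = (gTab.getD 3 []).getD r.val 72 := by
  rw [show (gTab.getD 3 []) = gTab.getD o3.val [] from rfl, gTab_chk o3 r.val (nr ▸ r.isLt),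
    ← fE.sW_val_foldr]
  rfl

theorem sO_tab : (gTab.getD 3 []).getD 56 72 = 15 ∧ chevE6.neg 56 = 15 ∧ parE6.rho 56 = 36 ∧
    ∀ r < 72, (gTab.getD 3 []).getD r 72 = chevE6.neg r → Lev r := by decide +kernel

include C C4 in
theorem ns_rep : ExactRep (K := K) sO ns := by
  have _ := C4
  exact ⟨C.nW_mem_G o3, fE.nW_mem _, fE.permAct_nW _, fun r t => nW_exact C4 _ r t⟩

theorem sO_e56 : sO e56 = fE.negFin e56 := Fin.ext <| by
  rw [sO_val]; exact sO_tab.1.trans sO_tab.2.1.symm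

theorem rho_e56 : C.sig.rhoF e56 = e36 := Fin.ext sO_tab.2.2.1

include C in
theorem exists_word {w : Equiv.Perm (Fin chevE6.nroots)} (hw : w ∈ C.sys.wFix) :
    ∃ l, w = sW chevE6 l ∧ w⁻¹ = sW chevE6 l.reverse := by
  obtain ⟨⟨l, hl⟩, -⟩ := C.sys.mem_wFix.1 hw
  exact ⟨l, hl, by rw [fE.sW_reverse, hl]⟩

include C in
theorem inv_e36 {w : Equiv.Perm (Fin chevE6.nroots)} (hw : w ∈ C.sys.wFix) :
    (w⁻¹ e36).val = parE6.rho (w⁻¹ e56).val := by
  rw [← rho_e56 C, C.sig.wfix_inv (C.sys.mem_wFix.1 hw).2 e56]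
  rfl

include C in
/-- A root flipped by a normalised element goes to the opposite radical. -/
theorem flip_oth {w : Equiv.Perm (Fin chevE6.nroots)} (hw : w ∈ C.sys.wFix)
    (hpos : 36 ≤ (w⁻¹ e56).val) :
    ∀ s : Fin chevE6.nroots, PosFlip w s.val → Oth (w s).val := by
  rintro s ⟨hs, hp, hn⟩
  obtain ⟨l, hl, hli⟩ := exists_word C hw
  rw [half] at hp hn
  have h36 : 36 ≤ (w⁻¹ e36).val := by
    rw [inv_e36 C hw]
    have := (C.sig.rho_pos_iff (w⁻¹ e56).isLt).2 (by rw [half]; exact hpos)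
    rwa [half] at this
  have key : ∀ e : Fin chevE6.nroots, 36 ≤ (w⁻¹ e).val → (w s).val ≠ (fE.negFin e).val := by
    intro e he h
    have h2 : s = fE.negFin (w⁻¹ e) := by
      rw [hli, ← fE.sW_neg, ← Fin.ext h, ← hli]
      simp
    have h3 := fE.negFin_pos (w⁻¹ e)
    rw [half, ← h2] at h3
    have := h3.1 hp
    omega
  refine ⟨hn, fun h => key e56 hpos ?_, fun h => key e36 h36 ?_⟩
  · rw [h]; exact neg_tab.1.symm
  · rw [h]; exact neg_tab.2.symm

include C C4 in
/-- The fixed parabolic subgroup is closed under the endomorphism. -/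
theorem par_img {g : GL chevE6.Idx K} (hg : g ∈ Par) : ∃ g' ∈ Par, Img C.σ g g' := by
  have _ := C4
  obtain ⟨v, hv, p, rfl⟩ := hg
  obtain ⟨v', hv', ev⟩ := C.sig.img_rootClosure (B := Rad)
    (fun r hr h => rad_rho_tab r (nr ▸ hr) h) hv
  exact ⟨_, ⟨v', hv', _, rfl⟩, ev.mul (img_pair C p)⟩

include C C4 in
theorem diag_mem_par {h : GL chevE6.Idx K} (hd : h ∈ chevE6.diagonalSubgroup K)
    (hG : h ∈ twistedE6 K 2) : h ∈ Par := by
  obtain ⟨a, rfl⟩ := diag_mem_range C C4 hd hG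
  exact phiT_mem_par C _

include C C4 in
/-- The normal form. -/
theorem normal_form {rep : Equiv.Perm (Fin chevE6.nroots) → GL chevE6.Idx K}
    (hrep : ∀ w ∈ C.sys.wFix, ExactRep (K := K) w (rep w)) {g : GL chevE6.Idx K}
    (hg : g ∈ twistedE6 K 2) :
    ∃ w ∈ C.sys.wFix, 36 ≤ (w⁻¹ e56).val ∧ ∃ p, p ∈ fixS C.σ ∧ p ∈ Par ∧
      ∃ u ∈ C.sys.fixU w, g = p * rep w * u := by
  obtain ⟨b, hbG, hb, n, hnG, hn, w, hw, hwf, u, hu, rfl⟩ := C.sys.bruhat hg
  have hwW : w ∈ C.sys.wFix := C.sys.mem_wFix.2 ⟨C.sys.perm_word hn hw, hwf⟩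
  have hR := hrep w hwW
  obtain ⟨u₁, hu₁G, hu₁, h, hhG, hh, rfl⟩ := C.sys.mem_B hbG hb
  have hd : n * (rep w)⁻¹ ∈ Par ⊓ twistedE6 K 2 := by
    have h1 := fE.same_perm hR.mono hn hR.act hw
    have h2 := fE.conj_diagonal hR.mono h1
    rw [mul_inv_cancel_left] at h2
    have h3 := Subgroup.mul_mem _ hnG (Subgroup.inv_mem _ hR.mem)
    exact ⟨diag_mem_par C C4 h2 h3, h3⟩
  have hp0 : u₁ * h * (n * (rep w)⁻¹) ∈ Par ⊓ fixS C.σ :=
    ⟨Subgroup.mul_mem _ (Subgroup.mul_mem _ (pos_le_par hu₁) (diag_mem_par C C4 hh hhG)) hd.1,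
      C.sys.le_fix (Subgroup.mul_mem _ (Subgroup.mul_mem _ hu₁G hhG) hd.2)⟩
  set p0 := u₁ * h * (n * (rep w)⁻¹) with hp0d
  have e0 : u₁ * h * n * u = p0 * rep w * u := by rw [hp0d]; group
  rw [e0]
  by_cases hpos : 36 ≤ (w⁻¹ e56).val
  · exact ⟨w, hwW, hpos, p0, hp0.2, hp0.1, u, hu, rfl⟩
  -- move the element of the Levi subgroup to the left
  obtain ⟨l, hl, hli⟩ := exists_word C hwW
  set w' := sO * w with hw'
  have hw'W : w' ∈ C.sys.wFix := C.sys.mem_wFix.2 ⟨⟨(O o3).word ++ l, by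
      rw [sW_append, hw', hl]; rfl⟩, C.sig.wfix_mul (C.sys.wfix_wO o3) hwf⟩
  have hpos' : 36 ≤ (w'⁻¹ e56).val := by
    have : w'⁻¹ e56 = fE.negFin (w⁻¹ e56) := by
      rw [hw', mul_inv_rev, Equiv.Perm.mul_apply, C.sys.wO_inv, show (O o3).wO e56 = _ from sO_e56,
        hli, fE.sW_neg]
    rw [this]
    have := (fE.negFin_pos (w⁻¹ e56)).2 (by rw [half]; omega)
    rwa [half] at this
  have hS := ns_rep C C4
  have hR' := hrep w' hw'W
  have hd' : (ns * rep w) * (rep w')⁻¹ ∈ Par ⊓ twistedE6 K 2 := by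
    have hm : ns * rep w ∈ chevE6.monomialSubgroup K := Subgroup.mul_mem _ hS.mono hR.mono
    have h1 := fE.same_perm hR'.mono hm hR'.act (fE.permAct_mul hS.act hR.act)
    have h2 := fE.conj_diagonal hR'.mono h1
    rw [mul_inv_cancel_left] at h2
    have h3 := Subgroup.mul_mem _ (Subgroup.mul_mem _ hS.mem hR.mem)
      (Subgroup.inv_mem _ hR'.mem)
    exact ⟨diag_mem_par C C4 h2 h3, h3⟩
  have hns : (ns : GL chevE6.Idx K) ∈ Par := by rw [ns_eq C]; exact phiT_mem_par C _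
  set q := p0 * ns⁻¹ * ((ns * rep w) * (rep w')⁻¹) with hq
  have hqP : q ∈ Par := Subgroup.mul_mem _ (Subgroup.mul_mem _ hp0.1 (Subgroup.inv_mem _ hns)) hd'.1
  have hqF : q ∈ fixS C.σ := Subgroup.mul_mem _
    (Subgroup.mul_mem _ hp0.2 (Subgroup.inv_mem _ (C.sys.le_fix hS.mem))) (C.sys.le_fix hd'.2)
  have e1 : p0 * rep w * u = q * rep w' * u := by rw [hq]; group
  rw [e1]
  have hupos : u ∈ rootClosure chevE6 K (chevE6.nroots / 2 ≤ ·) :=
    rootClosure_mono (fun r _ ⟨_, h, _⟩ => h) hu.2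
  obtain ⟨a, ha, c, hc, rfl⟩ := fE.flip_decomp cE (σ := w') (m := 36) (k := chevE6.nroots / 2)
    (by rw [half, nr]) le_rfl hupos
  have haP : rep w' * a * (rep w')⁻¹ ∈ Par :=
    pos_le_par (fE.conj_rootClosure hR'.act (fun s hs => hs.2.2) ha)
  set p' := q * (rep w' * a * (rep w')⁻¹) with hp'
  have hp'P : p' ∈ Par := Subgroup.mul_mem _ hqP haP
  have e2 : q * rep w' * (a * c) = p' * rep w' * c := by rw [hp']; group
  rw [e2]
  -- uniqueness gives fixed factors
  have hgfix : Img C.σ (p' * rep w' * c) (p' * rep w' * c) := by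
    rw [← e2]
    exact Subgroup.mul_mem _ (Subgroup.mul_mem _ hqF (C.sys.le_fix hR'.mem)) hu.1
  obtain ⟨p'', hp''P, ep⟩ := par_img C C4 hp'P
  have hwf' := (C.sys.mem_wFix.1 hw'W).2
  obtain ⟨c', hc', ec⟩ := C.sig.img_rootClosure (B := PosFlip w') (C.sig.posFlip_rho hwf') hc
  have e3 := ((ep.mul (C.sys.le_fix hR'.mem)).mul ec).unique hgfix
  have h4 : rep w' * (c' * c⁻¹) * (rep w')⁻¹ = p''⁻¹ * p' := by
    rw [eq_inv_mul_iff_mul_eq,
      show p'' * (rep w' * (c' * c⁻¹) * (rep w')⁻¹) = p'' * rep w' * c' * c⁻¹ * (rep w')⁻¹ by group,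
      e3]
    group
  have h5 : rep w' * (c' * c⁻¹) * (rep w')⁻¹ = 1 := by
    refine par_inf_oth ?_ (fE.conj_rootClosure hR'.act (flip_oth C hw'W hpos')
      (Subgroup.mul_mem _ hc' (Subgroup.inv_mem _ hc)))
    rw [h4]
    exact Subgroup.mul_mem _ (Subgroup.inv_mem _ hp''P) hp'P
  have h6 : p'' = p' := inv_mul_eq_one.1 (h4.symm.trans h5)
  rw [conj_eq_one_iff, mul_inv_eq_one] at h5
  rw [h6] at ep
  rw [h5] at ec
  exact ⟨w', hw'W, hpos', p', ep, hp'P, c, ⟨ec, hc⟩, rfl⟩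

/-- The Levi component of an element. -/
def LevIs (g : GL chevE6.Idx K) (l : SL(2, K)) : Prop :=
  ∃ v ∈ rootClosure chevE6 K Rad, g = v * phiT C l

theorem LevIs.mul {a b : GL chevE6.Idx K} {k l : SL(2, K)} (h : LevIs C a k) (h' : LevIs C b l) :
    LevIs C (a * b) (k * l) := by
  obtain ⟨v, hv, rfl⟩ := h
  obtain ⟨w, hw, rfl⟩ := h'
  refine ⟨v * (phiT C k * w * (phiT C k)⁻¹),
    Subgroup.mul_mem _ hv (conj_rad (pairHom_lev _) hw), ?_⟩
  rw [map_mul]; group

theorem LevIs.inv {a : GL chevE6.Idx K} {k : SL(2, K)} (h : LevIs C a k) : LevIs C a⁻¹ k⁻¹ := by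
  obtain ⟨v, hv, rfl⟩ := h
  refine ⟨(phiT C k)⁻¹ * v⁻¹ * ((phiT C k)⁻¹)⁻¹,
    conj_rad (Subgroup.inv_mem _ (pairHom_lev _)) (Subgroup.inv_mem _ hv), ?_⟩
  rw [map_inv]; group

theorem LevIs.self (l : SL(2, K)) : LevIs C (phiT C l) l :=
  ⟨1, Subgroup.one_mem _, (one_mul _).symm⟩

theorem LevIs.pow {a : GL chevE6.Idx K} {k : SL(2, K)} (h : LevIs C a k) :
    ∀ n : ℕ, LevIs C (a ^ n) (k ^ n)
  | 0 => by simpa using LevIs.self C (1 : SL(2, K))
  | n + 1 => by rw [pow_succ, pow_succ]; exact (LevIs.pow h n).mul C h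

include C4 in
theorem LevIs.unique {a : GL chevE6.Idx K} {k l : SL(2, K)} (h : LevIs C a k) (h' : LevIs C a l) :
    k = l := by
  obtain ⟨v, hv, rfl⟩ := h
  obtain ⟨w, hw, e⟩ := h'
  exact congrArg Prod.fst (par_unique (C4 := C4) hv hw e).2

include C4 in
theorem levIs_exists {g : GL chevE6.Idx K} (hg : g ∈ fixS C.σ) (hP : g ∈ Par) :
    ∃ l, LevIs C g l := by
  obtain ⟨v, -, hv, l, e⟩ := par_fixed C C4 hg hP
  exact ⟨l, v, hv, e⟩

theorem conj_phiR {w : Equiv.Perm (Fin chevE6.nroots)} {l : List (Fin chevE6.rank)}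
    (hl : w = sW chevE6 l) {n : GL chevE6.Idx K} (hn : ExactRep (K := K) w n) {r r' : ℕ}
    (hr : r < 72) (hr' : r' < 72) (he : (w ⟨r, lt_nr hr⟩).val = r') (g : SL(2, K)) :
    n * phiR r hr g * n⁻¹ = phiR r' hr' g := by
  induction g using sl2_induction with
  | one => simp
  | mul a b ha hb => rw [map_mul, map_mul, ← ha, ← hb]; group
  | up t =>
    rw [phiR_up, phiR_up, show xU chevE6 r t = xU chevE6 (⟨r, lt_nr hr⟩ : Fin chevE6.nroots).val t
      from rfl, hn.exact_conj, he]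
  | lo t =>
    rw [phiR_lo, phiR_lo, show xU chevE6 (chevE6.neg r) t =
        xU chevE6 (fE.negFin ⟨r, lt_nr hr⟩).val t from rfl, hn.exact_conj, hl, fE.sW_neg, ← hl]
    show xU chevE6 (chevE6.neg (w ⟨r, lt_nr hr⟩).val) t = _
    rw [he]

include C4 in
/-- An element centralising the element of order five in normal form. -/
theorem cent_shape {w : Equiv.Perm (Fin chevE6.nroots)} (hwW : w ∈ C.sys.wFix)
    (hpos : 36 ≤ (w⁻¹ e56).val) {n p u : GL chevE6.Idx K} (hn : ExactRep (K := K) w n)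
    (hpf : p ∈ fixS C.σ) (hp : p ∈ Par) (hu : u ∈ C.sys.fixU w)
    (hc : p * n * u * xF C C4 = xF C C4 * (p * n * u)) :
    (w e56).val = 56 ∧ Commute (xF C C4) p ∧ Commute (xF C C4) u := by
  set m := mFive C4 with hm
  set x := xF C C4 with hxdef
  have hxL : LevIs C x m := LevIs.self C m
  obtain ⟨lp, hlp⟩ := levIs_exists C C4 hpf hp
  have hupos : u ∈ rootClosure chevE6 K (chevE6.nroots / 2 ≤ ·) :=
    rootClosure_mono (fun r _ ⟨_, h, _⟩ => h) hu.2
  obtain ⟨lu, hlu⟩ := levIs_exists C C4 hu.1 (pos_le_par hupos)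
  set y := u * x * u⁻¹ with hy
  set z := p⁻¹ * x * p with hz
  have hny : n * y = z * n := by
    have h : p⁻¹ * (p * n * u * x) * u⁻¹ = p⁻¹ * (x * (p * n * u)) * u⁻¹ := by rw [hc]
    rw [show p⁻¹ * (p * n * u * x) * u⁻¹ = n * y by rw [hy]; group,
      show p⁻¹ * (x * (p * n * u)) * u⁻¹ = z * n by rw [hz]; group] at h
    exact h
  have hyL : LevIs C y (lu * m * lu⁻¹) := (hlu.mul C hxL).mul C (hlu.inv C)
  have hzL : LevIs C z (lp⁻¹ * m * lp) := ((hlp.inv C).mul C hxL).mul C hlp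
  have hm5 : m ^ 5 = 1 := by rw [hm, ← orderOf_mFive C4]; exact pow_orderOf_eq_one _
  have hm1 : m ≠ 1 := fun h => by
    have := orderOf_mFive C4
    rw [← hm, h, orderOf_one] at this
    norm_num at this
  -- the two elements of the Weyl group commute
  obtain ⟨k, hk⟩ := exists_pow_zero C4 (l := lu * m * lu⁻¹)
    (by rw [conj_pow, hm5]; group) (fun h => hm1 (conj_eq_one_iff.1 h))
  have hk1 : m ^ k ≠ 1 := fun h => by
    rw [conj_pow, h, mul_one, mul_inv_cancel] at hk
    simp at hk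
  set a := (lu * m * lu⁻¹) ^ k with ha
  set c := (lp⁻¹ * m * lp) ^ k with hc'
  have hc10 : c 1 0 ≠ 0 := fun h => by
    have h5 : c ^ 5 = 1 := by
      rw [hc', ← pow_mul, mul_comm, pow_mul]
      nth_rewrite 2 [← inv_inv lp]
      rw [conj_pow, hm5]
      simp
    have := upper_five C4 h h5
    rw [hc'] at this
    nth_rewrite 2 [← inv_inv lp] at this
    rw [conj_pow, conj_eq_one_iff] at this
    exact hk1 this
  have hup : ∀ b : SL(2, K), b 1 0 = 0 → n⁻¹ * phiT C b * n ∈ chevE6.borelSubgroup K ∧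
      phiT C b ∈ chevE6.borelSubgroup K := by
    intro b hb
    obtain ⟨hb0, eb⟩ := upper_eq hb
    have h36 : 36 ≤ (w⁻¹ e36).val := by
      rw [inv_e36 C hwW]
      have := (C.sig.rho_pos_iff (w⁻¹ e56).isLt).2 (by rw [half]; exact hpos)
      rwa [half] at this
    have hx : ∀ (e : Fin chevE6.nroots) (t : K), 36 ≤ (w⁻¹ e).val →
        n⁻¹ * xU chevE6 e.val t * n ∈ chevE6.borelSubgroup K := by
      intro e t he
      have h := hn.exact_conj (w⁻¹ e) t
      rw [show w (w⁻¹ e) = e by simp] at h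
      rw [← h]
      rw [show n⁻¹ * (n * xU chevE6 (w⁻¹ e).val t * n⁻¹) * n = xU chevE6 (w⁻¹ e).val t by group]
      exact fE.xU_mem_borel (w⁻¹ e).isLt (by rw [half]; exact he) t
    have e : phiT C b = hU chevE6 56 (b 0 0) * hU chevE6 36 (C.f (b 0 0)) *
        (xU chevE6 56 (b 0 1 / b 0 0) * xU chevE6 36 (C.f (b 0 1 / b 0 0))) := by
      conv_lhs => rw [eb]
      rw [map_mul, phiT_apply, phiT_apply, pairHom_apply, pairHom_apply, map_upM, phiR_up,
        phiR_up, phiR_dM]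
      congr 2
      rw [show Matrix.SpecialLinearGroup.map C.f (dM (b 0 0)) = dM (C.f (b 0 0)) by
        simp only [dM, nM, map_mul, map_upM, map_loT, map_neg, map_inv₀, map_one], phiR_dM]
    have hD : hU chevE6 56 (b 0 0) * hU chevE6 36 (C.f (b 0 0)) ∈ chevE6.diagonalSubgroup K :=
      Subgroup.mul_mem _ (fE.hU_mem_diagonal (lt_nr (by norm_num)) hb0)
        (fE.hU_mem_diagonal (lt_nr (by norm_num)) ((map_ne_zero _).2 hb0))
    set D := hU chevE6 56 (b 0 0) * hU chevE6 36 (C.f (b 0 0))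
    set X := xU chevE6 56 (b 0 1 / b 0 0)
    set Y := xU chevE6 36 (C.f (b 0 1 / b 0 0))
    rw [e]
    refine ⟨?_, Subgroup.mul_mem _ (fE.diagonal_le_borel hD) (Subgroup.mul_mem _
      (fE.xU_mem_borel (lt_nr (by norm_num)) (by rw [half]; norm_num) _)
      (fE.xU_mem_borel (lt_nr (by norm_num)) (by rw [half]) _))⟩
    rw [show n⁻¹ * (D * (X * Y)) * n =
      (n⁻¹ * D * n⁻¹⁻¹) * ((n⁻¹ * X * n) * (n⁻¹ * Y * n)) by group]
    exact Subgroup.mul_mem _
      (fE.diagonal_le_borel (fE.conj_diagonal (Subgroup.inv_mem _ hn.mono) hD))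
      (Subgroup.mul_mem _ (hx e56 _ hpos) (hx e36 _ h36))
  obtain ⟨vy, hvy, ey⟩ := hyL.pow C k
  obtain ⟨vz, hvz, ez⟩ := hzL.pow C k
  rw [← ha] at ey
  rw [← hc'] at ez
  obtain ⟨t, d, hd0, ec⟩ := lower_eq hc10
  set b' : SL(2, K) := wM⁻¹ * a with hb'
  have hb'0 : b' 1 0 = 0 := by
    rw [hb', Matrix.SpecialLinearGroup.coe_mul, Matrix.SpecialLinearGroup.coe_inv]
    simp [wM, Matrix.adjugate_fin_two, Matrix.mul_apply, Fin.sum_univ_two, hk,
      Matrix.vecMul, dotProduct]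
  have hny' : n * y ^ k = z ^ k * n := (SemiconjBy.pow_right hny k : _)
  have hS := ns_rep C C4
  have hws : w * sO = sO * w := by
    have e : 1 * (n * ns) * ((phiT C wM)⁻¹ * vy * phiT C wM * phiT C b') =
        (vz * phiT C (upM t)) * (ns * n) * (n⁻¹ * phiT C d * n) := by
      calc _ = n * y ^ k := by
            rw [ey, ns_eq C, hb', map_mul, map_inv]; group
        _ = z ^ k * n := hny'
        _ = _ := by rw [ez, ec, map_mul, map_mul, ns_eq C]; group
    have hL : (phiT C wM)⁻¹ * vy * phiT C wM * phiT C b' ∈ chevE6.borelSubgroup K := by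
      refine Subgroup.mul_mem _ (rad_le_borel ?_) (hup b' hb'0).2
      have := conj_rad (Subgroup.inv_mem _ (pairHom_lev _ :
        phiT C wM ∈ rootClosure chevE6 K Lev)) hvy
      rwa [inv_inv] at this
    have hR : vz * phiT C (upM t) ∈ chevE6.borelSubgroup K :=
      Subgroup.mul_mem _ (rad_le_borel hvz) (hup (upM t) (by simp [upM])).2
    have h := fE.bruhat_eqv cE (Subgroup.one_mem _) hR (Subgroup.mul_mem _ hn.mono hS.mono)
      (Subgroup.mul_mem _ hS.mono hn.mono) hL (hup d hd0).1 e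
    have h1 := fE.permAct_mul (fE.permAct_mul hn.act hS.act) (fE.permAct_diagonal h)
    rw [mul_inv_cancel_left, mul_one] at h1
    exact fE.permAct_unique h1 (fE.permAct_mul hS.act hn.act)
  obtain ⟨l, hl, hli⟩ := exists_word C hwW
  have hsi : sO * w⁻¹ = w⁻¹ * sO := by
    have := congrArg (fun v => w⁻¹ * v * w⁻¹) hws
    simpa [mul_assoc] using this
  have hlev : Lev (w⁻¹ e56).val := by
    refine sO_tab.2.2.2 _ (nr ▸ (w⁻¹ e56).isLt) ?_
    rw [← sO_val]
    have h := congrArg (fun v : Equiv.Perm (Fin chevE6.nroots) => v e56) hsi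
    simp only [Equiv.Perm.mul_apply] at h
    rw [h, sO_e56, hli, fE.sW_neg]
    rfl
  have hwf := (C.sys.mem_wFix.1 hwW).2
  have hcases : (w e56 = e56 ∧ w e36 = e36) ∨ (w e56 = e36 ∧ w e36 = e56) := by
    have hr : ∀ r, C.sig.rhoF r = e56 → w (C.sig.rhoF r) = C.sig.rhoF (w r) := fun r _ => hwf r
    rcases hlev with h | h | h | h
    · omega
    · omega
    · have h' : w⁻¹ e56 = e36 := Fin.ext h
      have h1 : w e36 = e56 := by rw [← h']; simp
      refine Or.inr ⟨?_, h1⟩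
      have h2 := hwf e56
      rw [rho_e56 C, h1] at h2
      apply C.sig.rhoF_inj
      rw [← h2]
      exact Fin.ext (show 56 = parE6.rho 36 from lev_rho_tab.2.1.symm)
    · have h' : w⁻¹ e56 = e56 := Fin.ext h
      have h1 : w e56 = e56 := by conv_lhs => rw [← h']; simp
      refine Or.inl ⟨h1, ?_⟩
      have h2 := hwf e56
      rwa [h1, rho_e56 C] at h2
  set x' := n * x * n⁻¹ with hx'
  have hconj : x' = phiT C (if w e56 = e56 then m else Matrix.SpecialLinearGroup.map C.f m) := by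
    rw [hx', hxdef, xF, ← hm, phiT_apply, pairHom_apply,
      show ∀ A B : GL chevE6.Idx K, n * (A * B) * n⁻¹ = (n * A * n⁻¹) * (n * B * n⁻¹) from
        fun A B => by group]
    rcases hcases with ⟨h1, h2⟩ | ⟨h1, h2⟩
    · rw [if_pos h1, phiT_apply, pairHom_apply,
        conj_phiR hl hn (by norm_num) (show 56 < 72 by norm_num) (congrArg Fin.val h1),
        conj_phiR hl hn (by norm_num) (show 36 < 72 by norm_num) (congrArg Fin.val h2)]
    · have hne : ¬ w e56 = e56 := by rw [h1]; decide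
      have hff : Matrix.SpecialLinearGroup.map C.f (Matrix.SpecialLinearGroup.map C.f m) = m := by
        ext i j
        exact C.pow_two _
      rw [if_neg hne, phiT_apply, pairHom_apply, hff,
        conj_phiR hl hn (by norm_num) (show 36 < 72 by norm_num) (congrArg Fin.val h1),
        conj_phiR hl hn (by norm_num) (show 56 < 72 by norm_num) (congrArg Fin.val h2)]
      exact (phiR_commute _ _).symm.eq
  set o := n * u * n⁻¹ with ho
  have hoth : o ∈ rootClosure chevE6 K Oth := fE.conj_rootClosure hn.act (flip_oth C hwW hpos) hu.2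
  have hxLev : x' ∈ rootClosure chevE6 K Lev := by rw [hconj]; exact pairHom_lev _
  have hzx : z = o * x' * o⁻¹ := by
    rw [eq_mul_inv_of_mul_eq hny.symm, ho, hx', hy]; group
  have hone : o * (x' * o⁻¹ * x'⁻¹) = 1 := by
    refine par_inf_oth ?_ (Subgroup.mul_mem _ hoth (conj_oth hxLev (Subgroup.inv_mem _ hoth)))
    rw [show o * (x' * o⁻¹ * x'⁻¹) = z * x'⁻¹ by rw [hzx]; group]
    refine Subgroup.mul_mem _ ?_ (Subgroup.inv_mem _ ?_)
    · exact Subgroup.mul_mem _ (Subgroup.mul_mem _ (Subgroup.inv_mem _ hp) (phiT_mem_par C m)) hp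
    · rw [hconj]; exact phiT_mem_par C _
  have hox : o * x' * o⁻¹ = x' := by
    rw [← mul_inv_eq_one, ← hone]; group
  have hlz : LevIs C x' (lp⁻¹ * m * lp) := by rw [← hox, ← hzx]; exact hzL
  have hfix : w e56 = e56 := by
    by_contra hne
    rw [hconj, if_neg hne] at hlz
    have h := LevIs.unique C C4 (LevIs.self C _) hlz
    exact not_conj_frob C4 C.f C.hf lp (by rw [← hm, h]; group)
  rw [if_pos hfix] at hconj
  change x' = x at hconj
  refine ⟨congrArg Fin.val hfix, ?_, ?_⟩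
  · show x * p = p * x
    have h : z = x := hzx.trans (hox.trans hconj)
    calc x * p = p * z := by rw [hz]; group
      _ = p * x := by rw [h]
  · show x * u = u * x
    have h := congrArg (fun g => n⁻¹ * g * n) hox
    simp only [ho, hx'] at h
    rw [show n⁻¹ * (n * u * n⁻¹ * (n * x * n⁻¹) * (n * u * n⁻¹)⁻¹) * n = u * x * u⁻¹ by group,
      show n⁻¹ * (n * x * n⁻¹) * n = x by group, mul_inv_eq_iff_eq_mul] at h
    exact h.symm

/-- The isotropic roots. -/
def isoS : Finset ℕ := {39, 46, 47, 69, 70, 71}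

/-- The isotropic roots flipped in a state. -/
def flS (st : List ℕ) : Finset ℕ :=
  ((([(39, 3), (46, 1), (47, 6), (69, 7), (70, 8), (71, 9)] : List (ℕ × ℕ)).filter
    fun p => Nat.blt (st.getD p.2 0) 36).map Prod.fst).toFinset

theorem good_sum : ∑ st ∈ good.toFinset, 2 ^ (flS st).card = 315 := by decide +kernel

theorem mem_flS {w : Equiv.Perm (Fin chevE6.nroots)} {r : ℕ} (h : PosFlip w r) (hi : Iso r) :
    r ∈ flS (state w) := by
  obtain ⟨hr, -, hn⟩ := h
  rw [half] at hn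
  simp only [flS, List.mem_toFinset, List.mem_map, List.mem_filter, Nat.blt_eq]
  rcases hi with rfl | rfl | rfl | rfl | rfl | rfl
  · exact ⟨(39, 3), ⟨by simp, hn⟩, rfl⟩
  · exact ⟨(46, 1), ⟨by simp, hn⟩, rfl⟩
  · exact ⟨(47, 6), ⟨by simp, hn⟩, rfl⟩
  · exact ⟨(69, 7), ⟨by simp, hn⟩, rfl⟩
  · exact ⟨(70, 8), ⟨by simp, hn⟩, rfl⟩
  · exact ⟨(71, 9), ⟨by simp, hn⟩, rfl⟩

/-- The product of the root elements of a set. -/
noncomputable def uOf (A : Finset ℕ) : GL chevE6.Idx K :=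
  wU chevE6 ((List.range' 36 36).map fun r => (r, if r ∈ A then (1 : K) else 0))

theorem exists_uOf {P : ℕ → Prop} (hR : ∀ r < 72, P r → Rad r) (hC : Closed P)
    {u : GL chevE6.Idx K} (hu : u ∈ rootClosure chevE6 K P) (hf : u ∈ fixS C.σ)
    (hx : Commute (xF C C4) u) (S : Finset ℕ) (hS : ∀ r, P r → Iso r → r ∈ S) :
    ∃ A ∈ S.powerset, u = uOf A := by
  classical
  obtain ⟨t, rfl, h0, h01⟩ := coords_of_commute C C4 hR hC hu hf hx
  refine ⟨S.filter fun r => t r = 1, Finset.mem_powerset.2 (Finset.filter_subset _ _), ?_⟩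
  rw [uOf]
  refine congrArg _ (List.map_congr_left fun r hr => ?_)
  rw [List.mem_range'_1] at hr
  congr 1
  rcases h01 r hr.1 (by omega) with h | h
  · rw [if_neg (fun h' => one_ne_zero (α := K) ((Finset.mem_filter.1 h').2.symm.trans h)), h]
  · by_cases hp : P r ∧ Iso r
    · rw [if_pos (Finset.mem_filter.2 ⟨hS r hp.1 hp.2, h⟩), h]
    · exact absurd ((h0 r hr.1 (by omega) hp).symm.trans h) zero_ne_one

include C in
theorem flip_closed {w : Equiv.Perm (Fin chevE6.nroots)} (hw : w ∈ C.sys.wFix) :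
    Closed (PosFlip w) := by
  obtain ⟨l, hl, -⟩ := exists_word C hw
  rintro i hi j hj ⟨hi', hip, hin⟩ ⟨hj', hjp, hjn⟩ c hc
  obtain ⟨hc1, hc2, -⟩ := fE.commTerms_lt hi' hj' hip hjp hc
  refine ⟨hc1, le_of_lt (lt_of_le_of_lt hip hc2),
    fE.neg_of_co_nonpos (w ⟨c.1, hc1⟩).isLt fun q hq => ?_⟩
  have h3 := (fE.commTerms_wt (fE.weight_sW l hq) hi' hj' hc).2.2.2
  simp only [dif_pos hi', dif_pos hj', dif_pos hc1, ← hl] at h3
  rw [h3]
  exact add_nonpos (nsmul_nonpos (fE.co_nonpos (w ⟨i, hi'⟩).isLt hin hq) _)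
    (nsmul_nonpos (fE.co_nonpos (w ⟨j, hj'⟩).isLt hjn hq) _)

theorem inf_coe_subset {G : Type*} [Group G] {H L : Subgroup G} {T : Finset G}
    (h : ∀ g, g ∈ H → g ∈ L → g ∈ T) : ((H ⊓ L : Subgroup G) : Set G) ⊆ ↑T :=
  fun g hg => Finset.mem_coe.2 (h g hg.1 hg.2)

theorem card_le_of_subset {G : Type*} [Group G] {H : Subgroup G} {T : Finset G}
    (h : (H : Set G) ⊆ ↑T) : Nat.card ↥H ≤ T.card := by
  exact (Nat.card_mono T.finite_toSet h).trans_eq (Set.ncard_coe_finset T)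

include C C4 in
/-- The centraliser of the element of order five has at most 100800 elements. -/
theorem card_cent_le :
    Nat.card ↥(twistedE6 K 2 ⊓ Subgroup.centralizer {xF C C4} : Subgroup (GL chevE6.Idx K)) ≤
      100800 := by
  classical
  have hex : ∀ w, w ∈ C.sys.wFix → ∃ n, ExactRep (K := K) w n := fun w hw => by
    obtain ⟨⟨l, hl⟩, hf⟩ := C.sys.mem_wFix.1 hw
    exact exists_exactRep C C4 hl hf
  choose! rep hrep using hex
  obtain ⟨W, hWd⟩ : ∃ W, W = C.sys.wFix.filter fun w => (w e56).val = 56 := ⟨_, rfl⟩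
  obtain ⟨T, hTd⟩ : ∃ T : Finset (GL chevE6.Idx K), T = W.biUnion fun w =>
    ((isoS.powerset ×ˢ (Finset.univ : Finset (Fin 5))) ×ˢ (flS (state w)).powerset).image
      fun q => uOf q.1.1 * xF C C4 ^ (q.1.2 : ℕ) * rep w * uOf q.2 := ⟨_, rfl⟩
  have hT : ∀ w ∈ W, ∀ A ∈ isoS.powerset, ∀ (k : Fin 5), ∀ B ∈ (flS (state w)).powerset,
      uOf A * xF C C4 ^ (k : ℕ) * rep w * uOf B ∈ T := by
    intro w hw A hA k B hB
    rw [hTd, Finset.mem_biUnion]
    refine ⟨w, hw, ?_⟩
    rw [Finset.mem_image]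
    exact ⟨((A, k), B), Finset.mem_product.2 ⟨Finset.mem_product.2 ⟨hA, Finset.mem_univ k⟩, hB⟩, rfl⟩
  have hsub : ((twistedE6 K 2 ⊓ Subgroup.centralizer {xF C C4} : Subgroup (GL chevE6.Idx K)) :
      Set (GL chevE6.Idx K)) ⊆ ↑T := by
    refine inf_coe_subset fun g hg hgc => ?_
    obtain ⟨w, hw, hpos, p, hpf, hp, u, hu, rfl⟩ := normal_form C C4 hrep hg
    obtain ⟨h56, hcp, hcu⟩ := cent_shape C C4 hw hpos (hrep w hw) hpf hp hu
      (Subgroup.mem_centralizer_singleton_iff.1 hgc)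
    obtain ⟨v, hvf, hv, lp, rfl⟩ := par_fixed C C4 hpf hp
    have hm : lp * mFive C4 = mFive C4 * lp := by
      have hL : LevIs C (v * phiT C lp) lp := ⟨v, hv, rfl⟩
      have hxL : LevIs C (xF C C4) (mFive C4) := LevIs.self C _
      have h2 := hxL.mul C hL
      rw [hcp.eq] at h2
      exact LevIs.unique C C4 (hL.mul C hxL) h2
    obtain ⟨k, rfl⟩ := cent_mFive C4 hm
    have hkx : phiT C (mFive C4 ^ (k : ℕ)) = xF C C4 ^ (k : ℕ) := map_pow _ _ _
    rw [hkx] at hcp ⊢
    have hcv : Commute (xF C C4) v := by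
      have := hcp.mul_right ((Commute.refl (xF C C4)).pow_right (k : ℕ)).inv_right
      rwa [mul_inv_cancel_right] at this
    obtain ⟨A, hA, rfl⟩ := exists_uOf C C4 (P := Rad) (fun _ _ h => h) rad_closed hv hvf hcv isoS
      (fun r _ h => by rcases h with h | h | h | h | h | h <;> simp [isoS, h])
    have hW : w ∈ W := by rw [hWd, Finset.mem_filter]; exact ⟨hw, h56⟩
    have h36 : (w e36).val = 36 := by
      have h := (C.sys.mem_wFix.1 hw).2 e56
      rw [rho_e56 C] at h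
      rw [h]
      show parE6.rho (w e56).val = 36
      rw [h56]
      exact lev_rho_tab.1
    obtain ⟨B, hB, rfl⟩ := exists_uOf C C4 (P := PosFlip w)
      (fun r _ ⟨hr, hp', hn'⟩ => ⟨half ▸ hp', fun e => by
        subst e; rw [half] at hn'; change (w e36).val < 36 at hn'; omega, fun e => by
        subst e; rw [half] at hn'; change (w e56).val < 36 at hn'; omega⟩)
      (flip_closed C hw) hu.2 hu.1 hcu (flS (state w)) (fun r h h' => mem_flS h h')
    exact hT w hW A hA k B hB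
  refine (card_le_of_subset hsub).trans ?_
  rw [hTd]
  refine Finset.card_biUnion_le.trans ?_
  calc _ ≤ ∑ w ∈ W, 320 * 2 ^ (flS (state w)).card := Finset.sum_le_sum fun w _ =>
        Finset.card_image_le.trans (by
          rw [Finset.card_product, Finset.card_product, Finset.card_powerset, Finset.card_powerset,
            Finset.card_univ, Fintype.card_fin, show isoS.card = 6 from rfl]
          norm_num)
    _ = 320 * ∑ st ∈ W.image state, 2 ^ (flS st).card := by
      rw [Finset.mul_sum, Finset.sum_image fun a ha b hb e =>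
        state_injOn C (Finset.mem_coe.2 (Finset.mem_filter.1 (hWd ▸ ha)).1)
          (Finset.mem_coe.2 (Finset.mem_filter.1 (hWd ▸ hb)).1) e]
    _ ≤ 320 * ∑ st ∈ good.toFinset, 2 ^ (flS st).card := by
      refine Nat.mul_le_mul_left _ (Finset.sum_le_sum_of_subset fun st hst => ?_)
      obtain ⟨w, hw, rfl⟩ := Finset.mem_image.1 hst
      obtain ⟨h1, h2⟩ := Finset.mem_filter.1 (hWd ▸ hw)
      exact List.mem_toFinset.2 (mem_good C h1 h2)
    _ = 100800 := by rw [good_sum]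

end CfsgLib.Chev.E6Five
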