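import Cfsg.Agent.Lib.Chev.E6Five.AltCheck
import Cfsg.Agent.Lib.Chev.E6Five.Upper
import Cfsg.Agent.Lib.Known.E6Fi22.Group
import Cfsg.Agent.Lib.Presentations.AltCarmichael

/-!
# The centraliser of the element of order five

Six elements satisfy the presentation of Carmichael of the alternating group of degree eight.
-/

set_option autoImplicit false
set_option maxRecDepth 20000
set_option Elab.async false

namespace CfsgLib.Chev.E6Five

open Cfsg.Lie CfsgLib.J3 Matrix CfsgLib.Chev CfsgLib.Chev.TwE6 CfsgLib.Chev.E6Fi22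
open CfsgLib.Fi22P.Cols (ap idc)
open CfsgLib.PresCert (act act_cons act_nil)
open CfsgLib.Presentations.Carmichael
open scoped MatrixGroups

universe v

variable {F : Type v} [Field F] (K : Fld F)

attribute [local irreducible] genCols a8Cols a8Words goodL wordOk idc

/-- The seven elements. -/
noncomputable def aEl (i : ℕ) : GL chevE6.Idx F := act (gEl K) (a8Words.getD i [])

theorem a8_lens : genCols.length = 16 ∧ a8Cols.length = 7 ∧ a8Words.length = 7 ∧
    (∀ w ∈ a8Words, ∀ g ∈ w, g < 16) ∧ genCols.all goodL = true ∧ a8Cols.all goodL = true ∧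
    goodL (idc 156) = true ∧ (∀ w ∈ a8Rels, ∀ g ∈ w, g < 7) := by
  have h := a8_lengths
  simp only [Bool.and_eq_true, Nat.beq_eq] at h
  obtain ⟨⟨⟨⟨⟨⟨⟨h1, h2⟩, h3⟩, h4⟩, h5⟩, h6⟩, h7⟩, h8⟩ := h
  exact ⟨h1, h2, h3, by simpa [List.all_eq_true, Nat.blt_eq] using h4, h5, h6, h7,
    by simpa [List.all_eq_true, Nat.blt_eq] using h8⟩

theorem rep_aEl {i : ℕ} (hi : i < a8Cols.length) :
    Rep K ((aEl K i : GL chevE6.Idx F) : Matrix chevE6.Idx chevE6.Idx F)
      (a8Cols.getD i (idc 156)) := by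
  rw [a8_lens.2.1] at hi
  have h := a8_words
  simp only [List.all_eq_true, List.mem_range] at h
  have e := wordOk_spec a8_lens.2.2.2.2.1 a8_lens.2.2.2.2.2.2.1 (h i hi)
  rw [aEl, getD_dflt (show i < a8Cols.length by rw [a8_lens.2.1]; exact hi) (idc 156) [], ← e]
  refine rep_act K (fun g hg => rep_gen K hg) ?_
  simp only [List.all_eq_true, Nat.blt_eq, a8_lens.1]
  intro g hg
  rw [List.getD_eq_getElem _ _ (by rw [a8_lens.2.2.1]; exact hi)] at hg
  exact a8_lens.2.2.2.1 _ (List.getElem_mem _) g hg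

theorem aEl_rel {w : List ℕ} (hw : w ∈ a8Rels) : act (aEl K) w = 1 := by
  have h := List.all_eq_true.1 a8_rels w hw
  have e := wordOk_spec a8_lens.2.2.2.2.2.1 a8_lens.2.2.2.2.2.2.1 h
  have hr := rep_act K (tab := a8Cols) (x := aEl K) (fun g hg => rep_aEl K hg) (w := w)
    (by simpa [List.all_eq_true, Nat.blt_eq, a8_lens.2.1] using a8_lens.2.2.2.2.2.2.2 w hw)
  rw [wcT, e] at hr
  exact Units.ext (Rep.ext hr (by rw [Units.val_one]; exact rep_one K))

theorem aEl_cube {i : ℕ} (hi : i < 6) : aEl K i ^ 3 = 1 := by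
  have h := aEl_rel K (w := [i, i, i]) (List.mem_append_left _ (List.mem_append_left _
    (List.mem_map.2 ⟨i, List.mem_range.2 hi, rfl⟩)))
  simp only [act_cons, act_nil, one_mul] at h
  rwa [pow_succ, pow_two]

theorem aEl_pair {i j : ℕ} (hi : i < 6) (hj : j < 6) (hij : i ≠ j) :
    (aEl K i * aEl K j) ^ 2 = 1 := by
  have hb : (!Nat.beq i j) = true := by
    rw [Bool.not_eq_true', ← Bool.not_eq_true, Nat.beq_eq]; exact hij
  have h := aEl_rel K (w := [j, i, j, i]) (List.mem_append_left _ (List.mem_append_right _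
    (List.mem_flatMap.2 ⟨i, List.mem_range.2 hi,
      List.mem_map.2 ⟨j, List.mem_filter.2 ⟨List.mem_range.2 hj, hb⟩, rfl⟩⟩)))
  simp only [act_cons, act_nil, one_mul] at h
  rw [pow_two, ← h]
  simp only [mul_assoc]

theorem aEl_ne_one : aEl K 0 ≠ 1 := by
  intro e
  have h := rep_aEl K (i := 0) (by rw [a8_lens.2.1]; norm_num) (2 ^ 2)
  rw [e, Units.val_one, one_mulVec] at h
  have h' := vec_inj K (Nat.pow_lt_pow_right (by norm_num) (by norm_num)) (ap_bound _ _
    (goodL_spec (goodL_getD a8_lens.2.2.2.2.2.1 a8_lens.2.2.2.2.2.2.1 0)).2) h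
  have k := a8_moved
  rw [getD_dflt (show 0 < a8Cols.length by rw [a8_lens.2.1]; norm_num) (idc 156) []] at h'
  rw [← h'] at k
  simp at k

variable [Fintype F] (C : Ctx F 2)

include C in
theorem aEl_mem (i : ℕ) : aEl K i ∈ twistedE6 F 2 := act_mem (gEl_mem K C) _

theorem word_six : a8Words.getD 6 [] = [4, 7, 4, 8] := by decide +kernel

theorem gFacs_vals : gFacs.getD 4 [] = [(56, true, false), (36, true, false)] ∧
    gFacs.getD 7 [] = [(15, true, false), (35, true, false)] ∧
    gFacs.getD 8 [] = [(15, false, true), (35, true, true)] := by decide +kernel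

include C in
theorem aEl_six : aEl K 6 = xF C K := by
  obtain ⟨g4, g7, g8⟩ := gFacs_vals
  have v1 : val2 K true false = 1 := by simp [val2]
  have hpair : ∀ t : F, phiT C (upM t) = xU chevE6 56 t * xU chevE6 36 (C.f t) := fun t => by
    rw [phiT_apply, pairHom_apply, map_upM, phiR_up, phiR_up]
  have hpair' : ∀ t : F, phiT C (loT t) = xU chevE6 15 t * xU chevE6 35 (C.f t) := fun t => by
    rw [phiT_apply, pairHom_apply, map_loT, phiR_lo, phiR_lo, neg_tab.1, neg_tab.2]
  have e4 : gEl K 4 = phiT C (upM 1) := by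
    rw [gEl, g4, hpair, map_one]; simp [v1]
  have e7 : gEl K 7 = phiT C (loT 1) := by
    rw [gEl, g7, hpair', map_one]; simp [v1]
  have e8 : gEl K 8 = phiT C (loT K.ω) := by
    rw [gEl, g8, hpair', C.hf]
    simp [val2, pow_two, root' K]
  have hm : mFive K = loT K.ω * upM 1 * loT 1 * upM 1 := by
    refine Subtype.ext ?_
    simp only [Matrix.SpecialLinearGroup.coe_mul]
    show !![(0 : F), 1; 1, K.ω] = !![1, 0; K.ω, 1] * !![1, 1; 0, 1] * !![1, 0; 1, 1] * !![1, 1; 0, 1]
    simp only [Matrix.mul_fin_two]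
    ext i j
    fin_cases i <;> fin_cases j <;> simp
    · linear_combination -K.two
    · linear_combination K.two
    · linear_combination -K.ω * K.two
    · linear_combination (-K.ω - 1) * K.two
  rw [aEl, word_six, xF, hm, map_mul, map_mul, map_mul]
  simp only [act_cons, act_nil, one_mul, e4, e7, e8]

include C in
theorem aEl_comm {i : ℕ} (hi : i < 6) : Commute (xF C K) (aEl K i) := by
  have h := aEl_rel K (w := [6, 6, 6, 6, i, i, 6, i]) (List.mem_append_right _
    (List.mem_map.2 ⟨i, List.mem_range.2 hi, rfl⟩))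
  simp only [act_cons, act_nil, one_mul] at h
  rw [aEl_six K C] at h
  have h5 : xF C K ^ 5 = 1 := by rw [← orderOf_xF C K]; exact pow_orderOf_eq_one _
  have h3 := aEl_cube K hi
  set x := xF C K
  set y := aEl K i
  show x * y = y * x
  have ey : y * y = y⁻¹ := eq_inv_of_mul_eq_one_left (by rwa [← pow_two, ← pow_succ])
  have ex : x * x * x * x = x⁻¹ := eq_inv_of_mul_eq_one_left (by
    rwa [← pow_two, ← pow_succ, ← pow_succ, ← pow_succ])
  have h' : y * x * (y * y) * (x * x * x * x) = 1 := by rw [← h]; simp only [mul_assoc]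
  rw [ey, ex, mul_inv_eq_one, mul_inv_eq_iff_eq_mul] at h'
  exact h'.symm

include C in
/-- The alternating group of degree eight inside the centraliser. -/
theorem exists_alt : ∃ φ : ↥(alternatingGroup (Fin 8)) →* GL chevE6.Idx F,
    Function.Injective φ ∧ φ.range ≤ twistedE6 F 2 ⊓ Subgroup.centralizer {xF C K} := by
  have hc : (0 : Fin 8) ≠ 1 := by decide
  let y : Idx (0 : Fin 8) 1 → GL chevE6.Idx F := fun i => aEl K (i.1.val - 2)
  have hlt : ∀ i : Idx (0 : Fin 8) 1, i.1.val - 2 < 6 ∧ 2 ≤ i.1.val := fun i => by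
    obtain ⟨i, h0, h1⟩ := i
    have a : i.val ≠ 0 := fun e => h0 (Fin.ext e)
    have b : i.val ≠ 1 := fun e => h1 (Fin.ext e)
    have := i.isLt
    show i.val - 2 < 6 ∧ 2 ≤ i.val
    omega
  have hy : CRels y := ⟨fun i => aEl_cube K (hlt i).1, fun i j hij => aEl_pair K (hlt i).1 (hlt j).1
    fun e => hij (Subtype.ext (Fin.ext (by have := (hlt i).2; have := (hlt j).2; omega)))⟩
  obtain ⟨φ, hφ⟩ := exists_hom hc y hy
  haveI : IsSimpleGroup ↥(alternatingGroup (Fin 8)) := alternatingGroup.isSimpleGroup (by simp)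
  refine ⟨φ, (MonoidHom.ker_eq_bot_iff _).1
    ((IsSimpleGroup.eq_bot_or_eq_top_of_normal _ φ.normal_ker).resolve_right fun h =>
      aEl_ne_one K ?_), ?_⟩
  · have := hφ ⟨2, by decide, by decide⟩
    rw [MonoidHom.mem_ker.1 (h ▸ Subgroup.mem_top _)] at this
    exact this.symm
  · rw [MonoidHom.range_eq_map, ← gen_closure hc, MonoidHom.map_closure, Subgroup.closure_le]
    rintro _ ⟨_, ⟨i, rfl⟩, rfl⟩
    rw [hφ, SetLike.mem_coe, Subgroup.mem_inf, Subgroup.mem_centralizer_singleton_iff]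
    exact ⟨aEl_mem K C _, (aEl_comm K C (hlt i).1).eq.symm⟩

include C in
/-- The centraliser of the element of order five. -/
theorem cent_iso : Nonempty (↥(Subgroup.centralizer
      ({⟨xF C K, xF_mem C K⟩} : Set ↥(twistedE6 F 2))) ≃*
      (Multiplicative (ZMod 5) × ↥(alternatingGroup (Fin 8)))) := by
  obtain ⟨φ, hinj, hle⟩ := exists_alt K C
  haveI : Fact (Nat.Prime 5) := ⟨by norm_num⟩
  haveI hsimp : IsSimpleGroup ↥(alternatingGroup (Fin 8)) := alternatingGroup.isSimpleGroup (by simp)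
  set x : ↥(twistedE6 F 2) := ⟨xF C K, xF_mem C K⟩ with hx
  set H := Subgroup.centralizer ({x} : Set ↥(twistedE6 F 2)) with hH
  have hx5 : orderOf x = 5 := (Subgroup.orderOf_mk _ _).trans (orderOf_xF C K)
  have hmem : ∀ a, φ a ∈ twistedE6 F 2 ∧ φ a * xF C K = xF C K * φ a := fun a => by
    have h := hle ⟨a, rfl⟩
    exact ⟨(Subgroup.mem_inf.1 h).1, Subgroup.mem_centralizer_singleton_iff.1 (Subgroup.mem_inf.1 h).2⟩
  let ψ : ↥(alternatingGroup (Fin 8)) →* ↥H :=
    MonoidHom.mk' (fun a => ⟨⟨φ a, (hmem a).1⟩,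
      Subgroup.mem_centralizer_singleton_iff.2 (Subtype.ext (hmem a).2)⟩)
      fun a b => Subtype.ext (Subtype.ext (map_mul φ a b))
  let xH : ↥H := ⟨x, Subgroup.mem_centralizer_singleton_iff.2 rfl⟩
  have hxH : orderOf xH = 5 := (Subgroup.orderOf_mk _ _).trans hx5
  have hcard : Nat.card ↥(Subgroup.zpowers xH) = 5 := by rw [Nat.card_zpowers, hxH]
  have hcent : ∀ (z : ↥(Subgroup.zpowers xH)) (a : ↥(alternatingGroup (Fin 8))),
      Commute ((Subgroup.zpowers xH).subtype z) (ψ a) := by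
    rintro ⟨z, k, rfl⟩ a
    exact (Commute.zpow_left (show Commute xH (ψ a) from
      Subtype.ext (Subtype.ext (hmem a).2.symm)) k)
  set ζ := MonoidHom.noncommCoprod (Subgroup.zpowers xH).subtype ψ hcent with hζ
  have hψ : Function.Injective ψ := fun a b e =>
    hinj (congrArg (fun h : ↥H => (h.1 : GL chevE6.Idx F)) e)
  have hinjζ : Function.Injective ζ := by
    rw [hζ, MonoidHom.noncommCoprod_injective]
    refine ⟨Subgroup.subtype_injective _, hψ, disjoint_iff.2 ((Subgroup.eq_bot_iff_forall _).2 ?_)⟩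
    rintro g ⟨⟨⟨z, hz⟩, rfl⟩, a, ha⟩
    have hca : a ∈ Subgroup.center ↥(alternatingGroup (Fin 8)) := Subgroup.mem_center_iff.2 fun b => by
      refine hψ ?_
      rw [map_mul, map_mul, ha]
      exact (hcent ⟨z, hz⟩ b).eq.symm
    have hbot : Subgroup.center ↥(alternatingGroup (Fin 8)) = ⊥ := by
      refine ((inferInstance : (Subgroup.center ↥(alternatingGroup (Fin 8))).Normal).eq_bot_or_eq_top
        ).resolve_right fun h => ?_
      have hc2 := Subgroup.mem_center_iff.1
        (h ▸ Subgroup.mem_top (gen (show (0 : Fin 8) ≠ 1 by decide) ⟨2, by decide, by decide⟩))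
        (gen (show (0 : Fin 8) ≠ 1 by decide) ⟨3, by decide, by decide⟩)
      have := congrArg (fun g : ↥(alternatingGroup (Fin 8)) => (g : Equiv.Perm (Fin 8)) 0) hc2
      revert this
      decide
    rw [hbot, Subgroup.mem_bot] at hca
    rw [← ha, hca, map_one]
  haveI : Fintype (GL chevE6.Idx F) := Fintype.ofFinite _
  have hle2 : Nat.card ↥H ≤ Nat.card (↥(Subgroup.zpowers xH) × ↥(alternatingGroup (Fin 8))) := by
    rw [Nat.card_prod, hcard]
    have h8 : Nat.card ↥(alternatingGroup (Fin 8)) = 20160 := by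
      have h := two_mul_nat_card_alternatingGroup (α := Fin 8)
      rw [Nat.card_perm, Nat.card_fin] at h
      have e : Nat.factorial 8 = 40320 := rfl
      omega
    rw [h8]
    refine le_trans ?_ ((card_cent_le C K).trans (by norm_num))
    refine Nat.card_le_card_of_injective
      (fun h : ↥H => (⟨(h.1 : GL chevE6.Idx F), Subgroup.mem_inf.2 ⟨h.1.2,
        Subgroup.mem_centralizer_singleton_iff.2
          (congrArg Subtype.val (Subgroup.mem_centralizer_singleton_iff.1 h.2))⟩⟩ :
        ↥(twistedE6 F 2 ⊓ Subgroup.centralizer {xF C K} : Subgroup (GL chevE6.Idx F))))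
      fun a b e => Subtype.ext (Subtype.ext (by have := congrArg Subtype.val e; exact this))
  haveI : Finite ↥H := inferInstance
  have hbij := hinjζ.bijective_of_nat_card_le hle2
  have e1 : Multiplicative (ZMod 5) ≃* ↥(Subgroup.zpowers xH) :=
    mulEquivOfPrimeCardEq (p := 5) (by simp [Nat.card_zmod]) hcard
  exact ⟨((e1.prodCongr (MulEquiv.refl _)).trans (MulEquiv.ofBijective ζ hbij)).symm⟩

end CfsgLib.Chev.E6Five
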