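import Cfsg.Agent.Lib.J3.Mat
import Cfsg.Agent.Lib.Chev.SL2

/-!
# An element of order five in SL₂ over the field with four elements

Its centraliser, its trace and the powers with a zero corner.
-/

set_option autoImplicit false

namespace CfsgLib.Chev.E6Five

open Matrix CfsgLib.Chev
open scoped MatrixGroups

variable {F : Type*} [Field F]

/-- The lower unipotent element. -/
def loT (t : F) : SL(2, F) := ⟨!![1, 0; t, 1], by simp [Matrix.det_fin_two]⟩

theorem wM_loT : (wM : SL(2, F)) = upM 1 * loT (-1) * upM 1 := by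
  apply Subtype.ext
  simp only [Matrix.SpecialLinearGroup.coe_mul]
  simp [wM, upM, loT]

/-- The monomial element. -/
def nM (a : F) : SL(2, F) := upM a * loT (-a⁻¹) * upM a

theorem nM_val {a : F} (ha : a ≠ 0) :
    ((nM a : SL(2, F)) : Matrix (Fin 2) (Fin 2) F) = !![0, a; -a⁻¹, 0] := by
  simp only [nM, Matrix.SpecialLinearGroup.coe_mul]
  simp [upM, loT, ha]

/-- The diagonal element. -/
def dM (a : F) : SL(2, F) := nM a * nM (-1)

theorem dM_val {a : F} (ha : a ≠ 0) :
    ((dM a : SL(2, F)) : Matrix (Fin 2) (Fin 2) F) = !![a, 0; 0, a⁻¹] := by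
  simp only [dM, Matrix.SpecialLinearGroup.coe_mul, nM_val ha,
    nM_val (neg_ne_zero.2 (one_ne_zero (α := F)))]
  simp

/-- An upper triangular element is diagonal times unipotent. -/
theorem upper_eq {g : SL(2, F)} (h : g 1 0 = 0) :
    g 0 0 ≠ 0 ∧ g = dM (g 0 0) * upM (g 0 1 / g 0 0) := by
  have hd := sl2_det g
  rw [h, mul_zero, sub_zero] at hd
  have ha : g 0 0 ≠ 0 := left_ne_zero_of_mul_eq_one hd
  refine ⟨ha, Subtype.ext ?_⟩
  simp only [Matrix.SpecialLinearGroup.coe_mul, dM_val ha]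
  ext i j
  fin_cases i <;> fin_cases j <;> simp [upM, h, mul_div_cancel₀ _ ha]
  exact eq_inv_of_mul_eq_one_right hd

/-- An element which is not upper triangular. -/
theorem lower_eq {g : SL(2, F)} (h : g 1 0 ≠ 0) :
    ∃ (a : F) (b : SL(2, F)), b 1 0 = 0 ∧ g = upM a * wM * b := by
  refine ⟨g 0 0 / g 1 0, ((upM (g 0 0 / g 1 0) : SL(2, F)) * wM)⁻¹ * g, ?_, by group⟩
  rw [Matrix.SpecialLinearGroup.coe_mul, Matrix.SpecialLinearGroup.coe_inv,
    Matrix.SpecialLinearGroup.coe_mul]
  simp [upM, wM, Matrix.adjugate_fin_two, Matrix.mul_apply, Fin.sum_univ_two,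
    Matrix.vecMul, dotProduct]
  field_simp
  ring

section Four

open CfsgLib.J3

variable (K : Fld F)
include K

theorem neg_eq (x : F) : -x = x := by linear_combination (-x) * K.two

theorem om_sq : K.ω * K.ω = 1 + K.ω := root' K

theorem om_ne_zero : K.ω ≠ 0 := fun h => by
  have := K.root; simp [h] at this

theorem om_ne_one : K.ω ≠ 1 := fun h => by
  have := K.root
  rw [h] at this
  exact one_ne_zero (α := F) (by linear_combination this - K.two)

/-- The element of order five. -/
def mFive : SL(2, F) := ⟨!![0, 1; 1, K.ω], by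
  rw [Matrix.det_fin_two_of]; linear_combination (-1 : F) * K.two⟩

theorem mFive_sq : ((mFive K * mFive K : SL(2, F)) : Matrix (Fin 2) (Fin 2) F) =
    !![1, K.ω; K.ω, K.ω] := by
  rw [Matrix.SpecialLinearGroup.coe_mul]
  show !![0, 1; 1, K.ω] * !![0, 1; 1, K.ω] = _
  rw [Matrix.mul_fin_two]
  ext i j
  fin_cases i <;> fin_cases j <;> simp
  linear_combination om_sq K + K.two

theorem mFive_cube : ((mFive K * mFive K * mFive K : SL(2, F)) : Matrix (Fin 2) (Fin 2) F) =
    !![K.ω, K.ω; K.ω, 1] := by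
  rw [Matrix.SpecialLinearGroup.coe_mul, mFive_sq]
  show _ * !![0, 1; 1, K.ω] = _
  rw [Matrix.mul_fin_two]
  ext i j
  fin_cases i <;> fin_cases j <;> simp
  · linear_combination om_sq K + K.two
  · linear_combination om_sq K + K.ω * K.two

theorem mFive_four : ((mFive K ^ 4 : SL(2, F)) : Matrix (Fin 2) (Fin 2) F) =
    !![K.ω, 1; 1, 0] := by
  rw [pow_succ, pow_succ, pow_two, Matrix.SpecialLinearGroup.coe_mul, mFive_cube]
  show _ * !![0, 1; 1, K.ω] = _
  rw [Matrix.mul_fin_two]
  ext i j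
  fin_cases i <;> fin_cases j <;> simp
  · linear_combination om_sq K + K.ω * K.two
  · linear_combination K.ω * K.two

theorem orderOf_mFive : orderOf (mFive K) = 5 := by
  haveI : Fact (Nat.Prime 5) := ⟨by norm_num⟩
  refine orderOf_eq_prime ?_ fun h => ?_
  · refine Subtype.ext ?_
    rw [pow_succ, Matrix.SpecialLinearGroup.coe_mul, mFive_four]
    show _ * !![0, 1; 1, K.ω] = _
    rw [Matrix.SpecialLinearGroup.coe_one, Matrix.mul_fin_two]
    ext i j
    fin_cases i <;> fin_cases j <;> simp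
    linear_combination K.ω * K.two
  · have := congrArg (fun g : SL(2, F) => g 0 0) h
    simp [mFive] at this

/-- The centraliser consists of the powers. -/
theorem cent_mFive {l : SL(2, F)} (h : l * mFive K = mFive K * l) :
    ∃ k : Fin 5, l = mFive K ^ (k : ℕ) := by
  have e := congrArg (fun g : SL(2, F) => (g : Matrix (Fin 2) (Fin 2) F)) h
  simp only [Matrix.SpecialLinearGroup.coe_mul] at e
  have e00 := congrFun (congrFun e 0) 0
  have e01 := congrFun (congrFun e 0) 1
  simp [mFive, Matrix.mul_apply, Fin.sum_univ_two, Matrix.vecMul, dotProduct] at e00 e01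
  have hd := sl2_det l
  have hd' : l 0 0 * l 0 0 + K.ω * (l 0 0 * l 0 1) + l 0 1 * l 0 1 = 1 := by
    linear_combination hd + l 0 0 * e01 - l 0 1 * e00 + l 0 1 * l 0 1 * K.two
  have fin : ∀ (k : Fin 5) (a b : F), l 0 0 = a → l 0 1 = b →
      ((mFive K ^ (k : ℕ) : SL(2, F)) : Matrix (Fin 2) (Fin 2) F) = !![a, b; b, a + b * K.ω] →
      l = mFive K ^ (k : ℕ) := fun k a b ha hb hk => by
    refine Subtype.ext ?_
    rw [hk]
    ext i j
    fin_cases i <;> fin_cases j <;> simp [ha, hb, ← e00, ← e01]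
  have h0 := om_sq K
  have hn := om_ne_zero K
  have hn1 := om_ne_one K
  rcases K.elems (l 0 0) with ha | ha | ha | ha <;> rw [ha] at hd'
  · have hb : (l 0 1 - 1) * (l 0 1 - 1) = 0 := by linear_combination hd' + (1 - l 0 1) * K.two
    refine ⟨1, fin 1 0 1 ha (sub_eq_zero.1 (mul_self_eq_zero.1 hb)) ?_⟩
    rw [show mFive K ^ ((1 : Fin 5) : ℕ) = mFive K from pow_one _]
    show !![(0 : F), 1; 1, K.ω] = _
    rw [zero_add, one_mul]
  · have hb : l 0 1 * (l 0 1 + K.ω) = 0 := by linear_combination hd'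
    rcases mul_eq_zero.1 hb with hb | hb
    · refine ⟨0, fin 0 1 0 ha hb ?_⟩
      simp [Matrix.one_fin_two]
    · refine ⟨2, fin 2 1 K.ω ha (by linear_combination hb - K.ω * K.two) ?_⟩
      rw [show mFive K ^ ((2 : Fin 5) : ℕ) = mFive K * mFive K from pow_two _, mFive_sq]
      ext i j
      fin_cases i <;> fin_cases j <;> simp
      linear_combination (-1 : F) * h0 - K.two
  · have hb : (l 0 1 + 1) * (l 0 1 + K.ω) = 0 := by
      linear_combination hd' - (1 + l 0 1) * h0
    rcases mul_eq_zero.1 hb with hb | hb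
    · refine ⟨4, fin 4 K.ω 1 ha (by linear_combination hb - K.two) ?_⟩
      rw [show mFive K ^ ((4 : Fin 5) : ℕ) = mFive K ^ 4 from rfl, mFive_four]
      ext i j
      fin_cases i <;> fin_cases j <;> simp
      linear_combination (-K.ω) * K.two
    · refine ⟨3, fin 3 K.ω K.ω ha (by linear_combination hb - K.ω * K.two) ?_⟩
      rw [show mFive K ^ ((3 : Fin 5) : ℕ) = mFive K * mFive K * mFive K by
        rw [← pow_two, ← pow_succ]; rfl, mFive_cube]
      ext i j
      fin_cases i <;> fin_cases j <;> simp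
      linear_combination (-1 : F) * h0 - K.ω * K.two
  · exfalso
    rcases K.elems (l 0 1) with hb | hb | hb | hb <;> rw [hb] at hd'
    · exact hn1 (by linear_combination hd' - h0 - (K.ω + 1) * K.two)
    · exact hn1 (by linear_combination hd' - (K.ω * K.ω + K.ω + 1) * K.two)
    · exact hn (by linear_combination hd' - K.ω * h0 - (2 * (K.ω * K.ω) + K.ω) * K.two)
    · exact hn (by linear_combination hd' - (K.ω + 5) * h0 - (5 * K.ω + 3) * K.two)

/-- The Frobenius image is not conjugate. -/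
theorem not_conj_frob (f : F →+* F) (hf : ∀ t, f t = t ^ 2) (l : SL(2, F))
    (h : l * Matrix.SpecialLinearGroup.map f (mFive K) = mFive K * l) : False := by
  have e : Matrix.SpecialLinearGroup.map f (mFive K) = l⁻¹ * mFive K * l := by
    rw [mul_assoc, ← h, inv_mul_cancel_left]
  have ht := congrArg (fun g : SL(2, F) => Matrix.trace (g : Matrix (Fin 2) (Fin 2) F)) e
  simp only [Matrix.SpecialLinearGroup.coe_mul] at ht
  rw [Matrix.trace_mul_cycle, ← Matrix.SpecialLinearGroup.coe_mul, mul_inv_cancel,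
    Matrix.SpecialLinearGroup.coe_one, one_mul] at ht
  rw [show ((Matrix.SpecialLinearGroup.map f (mFive K) : SL(2, F)) : Matrix (Fin 2) (Fin 2) F) =
    !![f 0, f 1; f 1, f K.ω] by ext i j; fin_cases i <;> fin_cases j <;> rfl] at ht
  simp [mFive, Matrix.trace_fin_two, hf] at ht
  exact one_ne_zero (α := F) (by linear_combination ht - om_sq K)

/-- An upper triangular element whose fifth power is trivial is trivial. -/
theorem upper_five {g : SL(2, F)} (h : g 1 0 = 0) (h5 : g ^ 5 = 1) : g = 1 := by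
  have step : ∀ x y : SL(2, F), x 1 0 = 0 → y 1 0 = 0 →
      (x * y) 1 0 = 0 ∧ (x * y) 0 0 = x 0 0 * y 0 0 := fun x y hx hy => by
    rw [Matrix.SpecialLinearGroup.coe_mul]
    simp [Matrix.mul_apply, Fin.sum_univ_two, hx, hy]
  have hp : ∀ n : ℕ, (g ^ n) 1 0 = 0 ∧ (g ^ n) 0 0 = g 0 0 ^ n := by
    intro n
    induction n with
    | zero => simp
    | succ n ih =>
      obtain ⟨e1, e2⟩ := step _ _ ih.1 h
      rw [pow_succ, pow_succ]
      exact ⟨e1, by rw [e2, ih.2]⟩
  obtain ⟨ha, e⟩ := upper_eq h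
  have h1 : g 0 0 ^ 5 = 1 := by rw [← (hp 5).2, h5]; simp
  have h3 : g 0 0 ^ 3 = 1 := by
    rcases K.elems (g 0 0) with hh | hh | hh | hh <;> rw [hh] at ha ⊢
    · exact absurd rfl ha
    · ring
    · linear_combination (K.ω + 1) * om_sq K + K.ω * K.two
    · linear_combination (K.ω + 4) * om_sq K + (4 * K.ω + 2) * K.two
  have hone : g 0 0 = 1 := by
    calc g 0 0 = (g 0 0 ^ 3) ^ 2 / g 0 0 ^ 5 := by field_simp
      _ = 1 := by rw [h3, h1]; simp
  have hd1 : (dM 1 : SL(2, F)) = 1 := Subtype.ext (by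
    rw [dM_val one_ne_zero, Matrix.SpecialLinearGroup.coe_one, inv_one, Matrix.one_fin_two])
  rw [hone, hd1, one_mul, div_one] at e
  have hu : ∀ b : F, (upM b : SL(2, F)) * upM b = 1 := fun b => by
    apply Subtype.ext
    rw [Matrix.SpecialLinearGroup.coe_mul, Matrix.SpecialLinearGroup.coe_one]
    show !![(1 : F), b; 0, 1] * !![1, b; 0, 1] = 1
    rw [Matrix.mul_fin_two, Matrix.one_fin_two]
    ext i j
    fin_cases i <;> fin_cases j <;> simp
    linear_combination b * K.two
  have e2 : g * g = 1 := by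
    rw [e]
    exact hu _
  calc g = (g * g) * (g * g) * g := by rw [e2, one_mul, one_mul]
    _ = g ^ 5 := by simp [pow_succ, mul_assoc]
    _ = 1 := h5

/-- Some power of an element of order five has a zero corner. -/
theorem exists_pow_zero {l : SL(2, F)} (h5 : l ^ 5 = 1) (h1 : l ≠ 1) :
    ∃ k : ℕ, (l ^ k) 0 0 = 0 := by
  classical
  let sel : Fin 4 → F := ![0, 1, K.ω, 1 + K.ω]
  have hsel : Function.Surjective sel := fun x => by
    rcases K.elems x with rfl | rfl | rfl | rfl
    exacts [⟨0, rfl⟩, ⟨1, rfl⟩, ⟨2, rfl⟩, ⟨3, rfl⟩]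
  haveI : Finite F := Finite.of_surjective sel hsel
  let line : Fin 5 → Option F := fun k =>
    if (l ^ (k : ℕ)) 1 0 = 0 then none else some ((l ^ (k : ℕ)) 0 0 / (l ^ (k : ℕ)) 1 0)
  have hcard : Nat.card (Option F) ≤ Nat.card (Fin 5) := by
    rw [Finite.card_option, Nat.card_fin]
    have := Nat.card_le_card_of_surjective sel hsel
    rw [Nat.card_fin] at this
    omega
  have hinj : Function.Injective line := by
    intro j k e
    have hu : ((l ^ (j : ℕ))⁻¹ * l ^ (k : ℕ)) 1 0 = 0 := by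
      simp only [line] at e
      generalize l ^ (j : ℕ) = A, l ^ (k : ℕ) = B at e ⊢
      have e' : A 0 0 * B 1 0 = A 1 0 * B 0 0 := by
        split_ifs at e with hj hk hk
        · rw [hj, hk, mul_zero, zero_mul]
        · have := Option.some.inj e
          field_simp at this
          linear_combination this
      rw [Matrix.SpecialLinearGroup.coe_mul, Matrix.SpecialLinearGroup.coe_inv]
      simp [Matrix.adjugate_fin_two, Matrix.mul_apply, Fin.sum_univ_two]
      linear_combination e'
    have h55 : ((l ^ (j : ℕ))⁻¹ * l ^ (k : ℕ)) ^ 5 = 1 := by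
      rw [(((Commute.refl l).pow_pow j k).inv_left).mul_pow, inv_pow, ← pow_mul, ← pow_mul,
        mul_comm (j : ℕ), mul_comm (k : ℕ), pow_mul, pow_mul, h5]
      simp
    have e1 := upper_five K hu h55
    rw [inv_mul_eq_one] at e1
    haveI : Fact (Nat.Prime 5) := ⟨by norm_num⟩
    exact Fin.ext (pow_injOn_Iio_orderOf (x := l) (by rw [orderOf_eq_prime h5 h1]; exact j.isLt)
      (by rw [orderOf_eq_prime h5 h1]; exact k.isLt) e1)
  obtain ⟨k, hk⟩ := (hinj.bijective_of_nat_card_le hcard).2 (some 0)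
  refine ⟨k, ?_⟩
  simp only [line] at hk
  split_ifs at hk with hc
  exact (div_eq_zero_iff.1 (Option.some.inj hk)).resolve_right hc

end Four

end CfsgLib.Chev.E6Five
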