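import Cfsg.Agent.Lib.Chev.Twist.E6Main
import Cfsg.Agent.Lib.Chev.E6Five.Sl2

/-!
# The Levi subgroup A₁ × A₁ of the end nodes in E₆

The roots of the Levi subgroup, of its unipotent radical and of the opposite radical, the map
from a pair of SL₂ and the uniqueness of the decomposition of the parabolic subgroup.
-/

set_option autoImplicit false
set_option maxRecDepth 100000
set_option Elab.async false

namespace CfsgLib.Chev.E6Five

open Cfsg.Lie CfsgLib.Chev
open scoped MatrixGroups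

universe v

/-- The facts on the type. -/
theorem fE : Facts chevE6 DataE6.co := DataE6.facts

theorem nr : chevE6.nroots = 72 := by decide +kernel

theorem lt_nr {r : ℕ} (h : r < 72) : r < chevE6.nroots := nr.symm ▸ h

/-- A root of the Levi subgroup. -/
abbrev Lev (r : ℕ) : Prop := r = 15 ∨ r = 35 ∨ r = 36 ∨ r = 56

/-- A root of the radical. -/
abbrev Rad (r : ℕ) : Prop := 36 ≤ r ∧ r ≠ 36 ∧ r ≠ 56

/-- A root of the opposite radical. -/
abbrev Oth (r : ℕ) : Prop := r < 36 ∧ r ≠ 15 ∧ r ≠ 35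

/-- The grading. -/
def deg (r : ℕ) : ℤ := DataE6.co r 1 + DataE6.co r 2 + DataE6.co r 3 + DataE6.co r 4

theorem isWeight_deg : IsWeight chevE6 deg := by
  have h := fun j (hj : j < 6) => fE.isWeight_co (j := j) (show j < chevE6.rank from hj)
  refine ⟨fun r hr => ?_, fun r hr s hs k e => ?_⟩
  · simp only [deg, fE.co_neg r hr _ (show 1 < chevE6.rank by decide),
      fE.co_neg r hr _ (show 2 < chevE6.rank by decide),
      fE.co_neg r hr _ (show 3 < chevE6.rank by decide),
      fE.co_neg r hr _ (show 4 < chevE6.rank by decide)]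
    ring
  · simp only [deg, (h 1 (by norm_num)).add r hr s hs k e, (h 2 (by norm_num)).add r hr s hs k e,
      (h 3 (by norm_num)).add r hr s hs k e, (h 4 (by norm_num)).add r hr s hs k e]
    ring

theorem deg_tab : ∀ r < 72, (Lev r → deg r = 0) ∧ (Rad r → 1 ≤ deg r) ∧ (Oth r → deg r ≤ -1) ∧
    (Lev r ∨ Rad r ∨ Oth r) := by decide +kernel

theorem neg_tab : chevE6.neg 56 = 15 ∧ chevE6.neg 36 = 35 := by decide +kernel

theorem norm_tab : ∀ i ∈ [15, 35, 36, 56], ∀ j < 72, Rad j →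
    j ≠ chevE6.neg i ∧ (i ≠ j → ∀ c ∈ chevE6.commTerms i j, Rad c.1) := by decide +kernel

theorem comm_tab : ∀ r ∈ [56, 15], ∀ s ∈ [36, 35],
    s ≠ r ∧ s ≠ chevE6.neg r ∧ chevE6.commTerms r s = [] := by decide +kernel

variable {K : Type v} [Field K]

/-- The commutator formula. -/
theorem cE : CommF.{v} chevE6 := good_E6.{v}.2

/-- The rank one map of a root. -/
noncomputable def phiR (r : ℕ) (hr : r < 72) : SL(2, K) →* GL chevE6.Idx K :=
  (fE.exists_sl2Hom (F := K) (lt_nr hr)).choose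

theorem phiR_up {r : ℕ} (hr : r < 72) (t : K) : phiR r hr (upM t) = xU chevE6 r t := by
  refine Units.ext ?_
  rw [fE.xU_val (lt_nr hr)]
  exact ((fE.exists_sl2Hom (F := K) (lt_nr hr)).choose_spec.2 (upM t) t).1 rfl

theorem phiR_lo {r : ℕ} (hr : r < 72) (t : K) :
    phiR r hr (loT t) = xU chevE6 (chevE6.neg r) t := by
  refine Units.ext ?_
  rw [fE.xU_val (fE.neg_lt (lt_nr hr))]
  exact ((fE.exists_sl2Hom (F := K) (lt_nr hr)).choose_spec.2 (loT t) t).2 rfl

theorem phiR_wM {r : ℕ} (hr : r < 72) : phiR r hr (wM : SL(2, K)) = nU chevE6 r 1 := by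
  rw [wM_loT, map_mul, map_mul, phiR_up, phiR_lo, nU]
  simp

theorem phiR_dM {r : ℕ} (hr : r < 72) (a : K) : phiR r hr (dM a) = hU chevE6 r a := by
  simp only [dM, nM, map_mul, phiR_up, phiR_lo, hU, nU]

/-- Induction along the generators. -/
theorem sl2_induction {P : SL(2, K) → Prop} (one : P 1) (mul : ∀ a b, P a → P b → P (a * b))
    (up : ∀ t, P (upM t)) (lo : ∀ t, P (loT t)) (g : SL(2, K)) : P g := by
  induction sl2_gen (fE.rankOne (F := K) (lt_nr (show 36 < 72 by norm_num))) g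
    using Submonoid.closure_induction with
  | mem x hx =>
    rcases hx with rfl | ⟨t, rfl⟩
    · rw [wM_loT]
      exact mul _ _ (mul _ _ (up 1) (lo (-1))) (up 1)
    · exact up t
  | one => exact one
  | mul a b _ _ ha hb => exact mul a b ha hb

theorem phiR_mem {r : ℕ} (hr : r < 72) (g : SL(2, K)) :
    phiR r hr g ∈ rootClosure chevE6 K (fun s => s = r ∨ s = chevE6.neg r) := by
  induction g using sl2_induction with
  | one => rw [map_one]; exact Subgroup.one_mem _
  | mul a b ha hb => rw [map_mul]; exact Subgroup.mul_mem _ ha hb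
  | up t => rw [phiR_up]; exact xU_mem_rootClosure (lt_nr hr) (Or.inl rfl) t
  | lo t => rw [phiR_lo]; exact xU_mem_rootClosure (fE.neg_lt (lt_nr hr)) (Or.inr rfl) t

theorem xU_comm_of_tab {r s : ℕ} (hr : r < 72) (hs : s < 72) (h1 : s ≠ r)
    (h2 : s ≠ chevE6.neg r) (h3 : chevE6.commTerms r s = []) (t u : K) :
    Commute (xU chevE6 r t) (xU chevE6 s u) := by
  have h := fE.xU_comm cE (lt_nr hr) (lt_nr hs) h1 h2 t u
  rw [cwR, h3] at h
  simp only [List.map_nil, wU_nil, mul_one] at h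
  exact h.symm

theorem phiR_commute (g h : SL(2, K)) :
    Commute (phiR 56 (by norm_num) g) (phiR 36 (by norm_num) h) := by
  have e15 := neg_tab.1
  have e35 := neg_tab.2
  induction g using sl2_induction with
  | one => rw [map_one]; exact Commute.one_left _
  | mul a b ha hb => rw [map_mul]; exact ha.mul_left hb
  | up t =>
    rw [phiR_up]
    induction h using sl2_induction with
    | one => rw [map_one]; exact Commute.one_right _
    | mul a b ha hb => rw [map_mul]; exact ha.mul_right hb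
    | up u =>
      rw [phiR_up]
      obtain ⟨h1, h2, h3⟩ := comm_tab 56 (by simp) 36 (by simp)
      exact xU_comm_of_tab (by norm_num) (by norm_num) h1 h2 h3 t u
    | lo u =>
      rw [phiR_lo, e35]
      obtain ⟨h1, h2, h3⟩ := comm_tab 56 (by simp) 35 (by simp)
      exact xU_comm_of_tab (by norm_num) (by norm_num) h1 h2 h3 t u
  | lo t =>
    rw [phiR_lo, e15]
    induction h using sl2_induction with
    | one => rw [map_one]; exact Commute.one_right _
    | mul a b ha hb => rw [map_mul]; exact ha.mul_right hb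
    | up u =>
      rw [phiR_up]
      obtain ⟨h1, h2, h3⟩ := comm_tab 15 (by simp) 36 (by simp)
      exact xU_comm_of_tab (by norm_num) (by norm_num) h1 h2 h3 t u
    | lo u =>
      rw [phiR_lo, e35]
      obtain ⟨h1, h2, h3⟩ := comm_tab 15 (by simp) 35 (by simp)
      exact xU_comm_of_tab (by norm_num) (by norm_num) h1 h2 h3 t u

/-- The map of the pair. -/
noncomputable def pairHom : SL(2, K) × SL(2, K) →* GL chevE6.Idx K :=
  MonoidHom.noncommCoprod (phiR 56 (by norm_num)) (phiR 36 (by norm_num)) phiR_commute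

theorem pairHom_apply (a b : SL(2, K)) :
    pairHom (a, b) = phiR 56 (by norm_num) a * phiR 36 (by norm_num) b := rfl

theorem pairHom_lev (p : SL(2, K) × SL(2, K)) : pairHom p ∈ rootClosure chevE6 K Lev := by
  obtain ⟨a, b⟩ := p
  rw [pairHom_apply]
  have h := neg_tab
  refine Subgroup.mul_mem _ (rootClosure_mono ?_ (phiR_mem _ a)) (rootClosure_mono ?_ (phiR_mem _ b))
  · rintro r - (rfl | rfl)
    · exact Or.inr (Or.inr (Or.inr rfl))
    · exact Or.inl h.1
  · rintro r - (rfl | rfl)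
    · exact Or.inr (Or.inr (Or.inl rfl))
    · exact Or.inr (Or.inl h.2)

theorem lev_le_normalizer : rootClosure chevE6 K Lev ≤
    Subgroup.normalizer (rootClosure chevE6 K Rad : Set (GL chevE6.Idx K)) :=
  fE.le_normalizer_rootClosure cE fun i _ hQ j hj hP =>
    norm_tab i (by rcases hQ with rfl | rfl | rfl | rfl <;> simp) j (nr ▸ hj) hP

theorem conj_rad {g v : GL chevE6.Idx K} (hg : g ∈ rootClosure chevE6 K Lev)
    (hv : v ∈ rootClosure chevE6 K Rad) : g * v * g⁻¹ ∈ rootClosure chevE6 K Rad :=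
  (Subgroup.mem_normalizer_iff.1 (lev_le_normalizer hg) v).1 hv

/-- The parabolic subgroup. -/
noncomputable def Par : Subgroup (GL chevE6.Idx K) where
  carrier := {g | ∃ v ∈ rootClosure chevE6 K Rad, ∃ p, g = v * pairHom p}
  one_mem' := ⟨1, Subgroup.one_mem _, 1, by rw [map_one, mul_one]⟩
  mul_mem' := by
    rintro _ _ ⟨v, hv, p, rfl⟩ ⟨w, hw, q, rfl⟩
    refine ⟨v * (pairHom p * w * (pairHom p)⁻¹),
      Subgroup.mul_mem _ hv (conj_rad (pairHom_lev p) hw), p * q, ?_⟩
    rw [map_mul]; group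
  inv_mem' := by
    rintro _ ⟨v, hv, p, rfl⟩
    refine ⟨pairHom p⁻¹ * v⁻¹ * (pairHom p⁻¹)⁻¹,
      conj_rad (pairHom_lev _) (Subgroup.inv_mem _ hv), p⁻¹, ?_⟩
    rw [map_inv]; group

theorem rad_le_par : rootClosure chevE6 K Rad ≤ Par := fun v hv =>
  ⟨v, hv, 1, by rw [map_one, mul_one]⟩

theorem pairHom_mem_par (p : SL(2, K) × SL(2, K)) : pairHom p ∈ Par :=
  ⟨1, Subgroup.one_mem _, p, (one_mul _).symm⟩

/-- The negative of a grading. -/
theorem wt_neg : (fun a => -wt chevE6 deg a) = wt chevE6 (fun r => -deg r) := by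
  funext a; cases a <;> simp [wt]

theorem isWeight_negdeg : IsWeight chevE6 (fun r => -deg r) :=
  ⟨fun r hr => by simp [isWeight_deg.neg r hr], fun r hr s hs k e => by
    simp only [isWeight_deg.add r hr s hs k e]; ring⟩

theorem ut_closure_w {w : ℕ → ℤ} (hw : IsWeight chevE6 w) {P : ℕ → Prop} {k : ℤ} (hk : 0 ≤ k)
    (hP : ∀ r < 72, P r → k ≤ w r) {g : GL chevE6.Idx K} (hg : g ∈ rootClosure chevE6 K P) :
    UT (wt chevE6 w) k (g : Matrix chevE6.Idx chevE6.Idx K) := by
  refine ut_closure hk ?_ hg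
  rintro x ⟨r, t, hr, hPr, rfl⟩
  have h := hP r (nr ▸ hr) hPr
  rw [fE.xU_inv hr]
  exact ⟨fE.xU_ut_gen hw hr (hk.trans h) h t, fE.xU_ut_gen hw hr (hk.trans h) h (-t)⟩

theorem ut_rad {g : GL chevE6.Idx K} (hg : g ∈ rootClosure chevE6 K Rad) :
    UT (wt chevE6 deg) 1 (g : Matrix chevE6.Idx chevE6.Idx K) :=
  ut_closure_w isWeight_deg (by norm_num) (fun r hr h => (deg_tab r hr).2.1 h) hg

theorem ut_lev {g : GL chevE6.Idx K} (hg : g ∈ rootClosure chevE6 K Lev) :
    UT (fun a => -wt chevE6 deg a) 0 (g : Matrix chevE6.Idx chevE6.Idx K) := by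
  rw [wt_neg]
  exact ut_closure_w isWeight_negdeg le_rfl (fun r hr h => by simp [(deg_tab r hr).1 h]) hg

theorem ut_lev' {g : GL chevE6.Idx K} (hg : g ∈ rootClosure chevE6 K Lev) :
    UT (wt chevE6 deg) 0 (g : Matrix chevE6.Idx chevE6.Idx K) :=
  ut_closure_w isWeight_deg le_rfl (fun r hr h => ((deg_tab r hr).1 h).ge) hg

theorem ut_oth {g : GL chevE6.Idx K} (hg : g ∈ rootClosure chevE6 K Oth) :
    UT (fun a => -wt chevE6 deg a) 1 (g : Matrix chevE6.Idx chevE6.Idx K) := by
  rw [wt_neg]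
  exact ut_closure_w isWeight_negdeg (by norm_num)
    (fun r hr h => le_neg.1 ((deg_tab r hr).2.2.1 h)) hg

theorem ut_par {g : GL chevE6.Idx K} (hg : g ∈ Par) :
    UT (wt chevE6 deg) 0 (g : Matrix chevE6.Idx chevE6.Idx K) := by
  obtain ⟨v, hv, p, rfl⟩ := hg
  rw [Units.val_mul]
  exact UT.mul le_rfl ((ut_rad hv).mono (by norm_num)) (ut_lev' (pairHom_lev p))

/-- The parabolic subgroup meets the opposite radical trivially. -/
theorem par_inf_oth {g : GL chevE6.Idx K} (h1 : g ∈ Par) (h2 : g ∈ rootClosure chevE6 K Oth) :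
    g = 1 :=
  Units.ext (UT.eq_one (w := wt chevE6 deg) one_pos le_rfl (ut_oth h2) (ut_par h1))

theorem rad_inf_lev {v : GL chevE6.Idx K} (h1 : v ∈ rootClosure chevE6 K Rad)
    (h2 : v ∈ rootClosure chevE6 K Lev) : v = 1 := by
  refine Units.ext (UT.eq_one (w := fun a => -wt chevE6 deg a) one_pos le_rfl ?_ (ut_lev h2))
  simpa using ut_rad h1

variable {C4 : CfsgLib.J3.Fld K}

include C4 in
theorem phiR_injective {r : ℕ} (hr : r < 72) : Function.Injective (phiR (K := K) r hr) := by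
  refine (injective_iff_map_eq_one _).2 fun g hg => ?_
  have key : ∀ b : SL(2, K), b 1 0 = 0 → phiR r hr b = 1 → b = 1 := by
    intro b hb h
    obtain ⟨ha, e⟩ := upper_eq hb
    set a := b 0 0 with haa
    set c := b 0 1 / b 0 0 with hcc
    rw [e, map_mul, phiR_dM, phiR_up] at h
    have h1 := congrArg (fun z => xU chevE6 r (1 : K) * z) h
    have hconj := fE.hU_conj_xU (lt_nr hr) (lt_nr hr) (Units.mk0 a ha) (1 : K)
    rw [fE.prE_self (lt_nr hr), show (2 : ℤ) = ((2 : ℕ) : ℤ) from rfl, zpow_natCast,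
      Units.val_pow_eq_pow_val, Units.val_mk0, mul_one,
      show hU chevE6 r a = (xU chevE6 r c)⁻¹ from eq_inv_of_mul_eq_one_left h] at hconj
    have hc : Commute (xU chevE6 r c) (xU chevE6 r (1 : K)) := by
      show xU chevE6 r c * xU chevE6 r (1 : K) = xU chevE6 r (1 : K) * xU chevE6 r c
      rw [fE.xU_add (lt_nr hr), fE.xU_add (lt_nr hr), add_comm]
    rw [inv_inv, hc.inv_left.eq, inv_mul_cancel_right] at hconj
    have ha2 := fE.xU_left_inj (lt_nr hr) hconj
    have ha1 : a = 1 := by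
      have h4 : (a - 1) * (a - 1) = 0 := by linear_combination -ha2 + (1 - a) * C4.two
      exact sub_eq_zero.1 (mul_self_eq_zero.1 h4)
    have hd : (dM 1 : SL(2, K)) = 1 := Subtype.ext (by
      rw [dM_val one_ne_zero, inv_one, Matrix.SpecialLinearGroup.coe_one, Matrix.one_fin_two])
    have hh : hU chevE6 r (1 : K) = 1 := by rw [← phiR_dM hr, hd, map_one]
    rw [ha1, hh, one_mul] at h
    have hc0 : c = 0 := fE.xU_eq_one (lt_nr hr) h
    rw [e, ha1, hd, hc0, one_mul]
    exact Subtype.ext (by simp [upM, Matrix.one_fin_two])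
  by_cases hc : g 1 0 = 0
  · exact key g hc hg
  exfalso
  obtain ⟨a, b, hb, rfl⟩ := lower_eq hc
  obtain ⟨hb0, eb⟩ := upper_eq hb
  rw [eb, map_mul, map_mul, map_mul, phiR_up, phiR_wM, phiR_dM, phiR_up] at hg
  set m := hU chevE6 r (b 0 0) with hm
  set q := xU chevE6 r (b 0 1 / b 0 0) with hq
  have hn : nU chevE6 r (1 : K) = (xU chevE6 r a)⁻¹ * (m * q)⁻¹ := by
    rw [eq_mul_inv_iff_mul_eq]
    exact eq_inv_of_mul_eq_one_right (by rw [← mul_assoc]; exact hg)
  have e1 := fE.nU_conj_self (lt_nr hr) (1 : K)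
  rw [hn] at e1
  set s := b 0 1 / b 0 0
  have hcomm : ∀ u w : K, xU chevE6 r u * xU chevE6 r w = xU chevE6 r w * xU chevE6 r u :=
    fun u w => by rw [fE.xU_add (lt_nr hr), fE.xU_add (lt_nr hr), add_comm]
  have hconj := fE.hU_conj_xU (lt_nr hr) (lt_nr hr) (Units.mk0 (b 0 0) hb0)⁻¹ (1 : K)
  have hmi : hU chevE6 r (((Units.mk0 (b 0 0) hb0)⁻¹ : Kˣ) : K) = m⁻¹ := by
    rw [hm, ← phiR_dM hr, ← phiR_dM hr, ← map_inv]
    congr 1
    refine eq_inv_of_mul_eq_one_left (Subtype.ext ?_)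
    rw [Matrix.SpecialLinearGroup.coe_mul, Units.val_inv_eq_inv_val, Units.val_mk0,
      dM_val (inv_ne_zero hb0), dM_val hb0, Matrix.SpecialLinearGroup.coe_one]
    simp [hb0, Matrix.one_fin_two]
  rw [hmi, inv_inv] at hconj
  set d := ((((Units.mk0 (b 0 0) hb0)⁻¹) ^ prE chevE6 r r : Kˣ) : K) * 1
  have e2 : xU chevE6 r d = xU chevE6 (chevE6.neg r) (-1) := by
    rw [← e1, ← hconj]
    simp only [mul_inv_rev, inv_inv, hq]
    rw [show (xU chevE6 r a)⁻¹ = xU chevE6 r (-a) from fE.xU_inv (lt_nr hr) a,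
      show (xU chevE6 r s)⁻¹ = xU chevE6 r (-s) from fE.xU_inv (lt_nr hr) s]
    have k1 : xU chevE6 r (-s) * (m⁻¹ * xU chevE6 r (1 : K) * m) * xU chevE6 r s =
        m⁻¹ * xU chevE6 r (1 : K) * m := by
      rw [hconj, hcomm, ← fE.xU_inv (lt_nr hr), inv_mul_cancel_right]
    calc m⁻¹ * xU chevE6 r (1 : K) * m
        = xU chevE6 r (-a) * (xU chevE6 r (-s) * (m⁻¹ * xU chevE6 r (1 : K) * m) * xU chevE6 r s) *
            (xU chevE6 r (-a))⁻¹ := by
          rw [k1, hconj, hcomm, mul_inv_cancel_right]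
      _ = _ := by rw [fE.xU_inv (lt_nr hr) (-a), _root_.neg_neg]; group
  exact fE.neg_ne (lt_nr hr) (fE.xU_root_unique (fE.neg_lt (lt_nr hr)) (lt_nr hr)
    (neg_ne_zero.2 one_ne_zero) e2.symm)

include C4 in
theorem pairHom_injective : Function.Injective (pairHom (K := K)) := by
  refine (injective_iff_map_eq_one _).2 fun p hp => ?_
  obtain ⟨a, b⟩ := p
  rw [pairHom_apply] at hp
  have hinj := phiR_injective (C4 := C4) (K := K) (show 56 < 72 by norm_num)
  have hc : ∀ g : SL(2, K), a * g = g * a := fun g => hinj (by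
    rw [map_mul, map_mul, eq_inv_of_mul_eq_one_left hp]
    exact ((phiR_commute g b).inv_right).symm.eq)
  have u := congrArg (fun g : SL(2, K) => (g : Matrix (Fin 2) (Fin 2) K)) (hc (upM 1))
  have l := congrArg (fun g : SL(2, K) => (g : Matrix (Fin 2) (Fin 2) K)) (hc (loT 1))
  simp only [Matrix.SpecialLinearGroup.coe_mul] at u l
  have u00 := congrFun (congrFun u 0) 0
  have u01 := congrFun (congrFun u 0) 1
  have l00 := congrFun (congrFun l 0) 0
  simp [upM, loT, Matrix.mul_apply, Fin.sum_univ_two, Matrix.vecMul, dotProduct] at u00 u01 l00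
  have hd := sl2_det a
  rw [l00, add_zero, zero_add] at u01
  rw [u00, mul_zero, sub_zero, ← u01] at hd
  have h1 : a 0 0 = 1 := by
    have h4 : (a 0 0 - 1) * (a 0 0 - 1) = 0 := by linear_combination hd + (1 - a 0 0) * C4.two
    exact sub_eq_zero.1 (mul_self_eq_zero.1 h4)
  have ha : a = 1 := by
    refine Subtype.ext ?_
    rw [Matrix.SpecialLinearGroup.coe_one]
    ext i j
    fin_cases i <;> fin_cases j <;> simp [h1, u00, l00, ← u01]
  subst ha
  rw [map_one, one_mul] at hp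
  have hb : b = 1 := phiR_injective (C4 := C4) (show 36 < 72 by norm_num) (by rw [hp, map_one])
  rw [hb]; rfl

include C4 in
/-- The decomposition is unique. -/
theorem par_unique {v w : GL chevE6.Idx K} (hv : v ∈ rootClosure chevE6 K Rad)
    (hw : w ∈ rootClosure chevE6 K Rad) {p q : SL(2, K) × SL(2, K)}
    (h : v * pairHom p = w * pairHom q) : v = w ∧ p = q := by
  have h1 : w⁻¹ * v = pairHom (q * p⁻¹) := by
    rw [map_mul, map_inv, eq_mul_inv_iff_mul_eq, mul_assoc, h, inv_mul_cancel_left]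
  have h2 : w⁻¹ * v = 1 := rad_inf_lev (Subgroup.mul_mem _ (Subgroup.inv_mem _ hw) hv)
    (h1 ▸ pairHom_lev _)
  obtain rfl : v = w := (inv_mul_eq_one.1 h2).symm
  exact ⟨rfl, pairHom_injective (C4 := C4) (mul_left_cancel h)⟩

end CfsgLib.Chev.E6Five
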