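import Cfsg.Agent.Lib.Chev.E6Five.FuseData
import Cfsg.Agent.Lib.Known.E6Fi22.Group
import Cfsg.Agent.Lib.Chev.Twist.E6Main

/-!
# All elements of order five of ²E₆(2) are conjugate

The subgroup Fi₂₂ contains a Sylow subgroup, and conjugations in it fuse its elements.
-/

set_option autoImplicit false
set_option maxRecDepth 20000
set_option Elab.async false

namespace CfsgLib.Chev.E6Five

open Cfsg.Lie CfsgLib.J3 CfsgLib.Chev CfsgLib.Chev.TwE6
open CfsgLib.PresCert (act act_cons act_nil act_append)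
open CfsgLib.Fi22P (fiGen eq_of_base sameBase phi tab realised)

universe v

/-- Fusion in a Sylow subgroup of order 25. -/
theorem fusion {G : Type*} [Group G] [Finite G] {a b s h k l : G} (ha : orderOf a = 5)
    (hb : orderOf b = 5) (hab : Commute a b) (hne : b ∉ Subgroup.zpowers a)
    (hs : s * a * s⁻¹ = b) (hh : h * a * h⁻¹ = a * b) (hk : k * a * k⁻¹ = a * a)
    (hk' : k * b * k⁻¹ = b) (hl : l * b * l⁻¹ = b * b) (hl' : l * a * l⁻¹ = a)
    (hG : (Nat.card G).factorization 5 = 2) {y : G} (hy : orderOf y = 5) : IsConj a y := by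
  haveI : Fact (Nat.Prime 5) := ⟨by norm_num⟩
  have stepK : ∀ i j : ℕ, IsConj (a ^ i * b ^ j) (a ^ (2 * i) * b ^ j) := fun i j =>
    isConj_iff.2 ⟨k, by rw [show k * (a ^ i * b ^ j) * k⁻¹ = (k * a ^ i * k⁻¹) * (k * b ^ j * k⁻¹) by
      group, ← conj_pow, ← conj_pow, hk, hk', ← pow_two, ← pow_mul]⟩
  have stepL : ∀ i j : ℕ, IsConj (a ^ i * b ^ j) (a ^ i * b ^ (2 * j)) := fun i j =>
    isConj_iff.2 ⟨l, by rw [show l * (a ^ i * b ^ j) * l⁻¹ = (l * a ^ i * l⁻¹) * (l * b ^ j * l⁻¹) by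
      group, ← conj_pow, ← conj_pow, hl, hl', ← pow_two, ← pow_mul]⟩
  have manyK : ∀ n i j : ℕ, IsConj (a ^ i * b ^ j) (a ^ (2 ^ n * i) * b ^ j) := by
    intro n i j
    induction n with
    | zero => rw [pow_zero, one_mul]
    | succ n ih => exact ih.trans (by rw [pow_succ', mul_assoc]; exact stepK _ j)
  have manyL : ∀ n i j : ℕ, IsConj (a ^ i * b ^ j) (a ^ i * b ^ (2 ^ n * j)) := by
    intro n i j
    induction n with
    | zero => rw [pow_zero, one_mul]
    | succ n ih => exact ih.trans (by rw [pow_succ', mul_assoc]; exact stepL i _)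
  have hpa : ∀ i, a ^ i = a ^ (i % 5) := fun i => by rw [← ha, pow_mod_orderOf]
  have hpb : ∀ i, b ^ i = b ^ (i % 5) := fun i => by rw [← hb, pow_mod_orderOf]
  have hlog : ∀ i, i < 5 → i = 0 ∨ ∃ n, 2 ^ n * 1 % 5 = i := by
    intro i hi
    interval_cases i
    exacts [Or.inl rfl, Or.inr ⟨0, rfl⟩, Or.inr ⟨1, rfl⟩, Or.inr ⟨3, rfl⟩, Or.inr ⟨2, rfl⟩]
  have hall : ∀ i j, i < 5 → j < 5 → ¬ (i = 0 ∧ j = 0) → IsConj a (a ^ i * b ^ j) := by
    intro i j hi hj h0
    rcases hlog i hi with rfl | ⟨n, rfl⟩ <;> rcases hlog j hj with rfl | ⟨m, rfl⟩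
    · exact absurd ⟨rfl, rfl⟩ h0
    · rw [← hpb]
      refine IsConj.trans ?_ (manyL m 0 1)
      exact isConj_iff.2 ⟨s, by rw [hs, pow_zero, one_mul, pow_one]⟩
    · rw [← hpa]
      refine IsConj.trans ?_ (manyK n 1 0)
      rw [pow_one, pow_zero, mul_one]
    · rw [← hpa, ← hpb]
      refine IsConj.trans (IsConj.trans ?_ (manyK n 1 1)) (manyL m _ 1)
      exact isConj_iff.2 ⟨h, by rw [hh, pow_one, pow_one]⟩
  have hcomm : ∀ (p : ↥(Subgroup.zpowers a)) (q : ↥(Subgroup.zpowers b)),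
      Commute ((Subgroup.zpowers a).subtype p) ((Subgroup.zpowers b).subtype q) := by
    rintro ⟨_, i, rfl⟩ ⟨_, j, rfl⟩
    exact hab.zpow_zpow i j
  set f := MonoidHom.noncommCoprod _ _ hcomm with hf
  have hinj : Function.Injective f := by
    rw [hf, MonoidHom.noncommCoprod_injective]
    refine ⟨Subgroup.subtype_injective _, Subgroup.subtype_injective _, ?_⟩
    rw [Subgroup.range_subtype, Subgroup.range_subtype, disjoint_iff, Subgroup.eq_bot_iff_forall]
    intro x hx
    obtain ⟨hxa, hxb⟩ := Subgroup.mem_inf.1 hx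
    by_contra hx1
    have hca : Nat.card ↥(Subgroup.zpowers a) = 5 := by rw [Nat.card_zpowers, ha]
    have hcb : Nat.card ↥(Subgroup.zpowers b) = 5 := by rw [Nat.card_zpowers, hb]
    have hx5 : orderOf x = 5 := orderOf_eq_prime (by
      have := pow_card_eq_one' (x := (⟨x, hxa⟩ : ↥(Subgroup.zpowers a)))
      rw [hca] at this
      exact congrArg Subtype.val this) hx1
    have e : Subgroup.zpowers x = Subgroup.zpowers b :=
      Subgroup.eq_of_le_of_card_ge (Subgroup.zpowers_le.2 hxb)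
        (by rw [hcb, Nat.card_zpowers, hx5])
    exact hne ((e ▸ Subgroup.zpowers_le.2 hxa : Subgroup.zpowers b ≤ Subgroup.zpowers a)
      (Subgroup.mem_zpowers b))
  have hcard : Nat.card ↥f.range = 5 ^ (Nat.card G).factorization 5 := by
    rw [hG, Nat.card_congr (MonoidHom.ofInjective hinj).symm.toEquiv, Nat.card_prod,
      Nat.card_zpowers, Nat.card_zpowers, ha, hb]
    norm_num
  obtain ⟨Q, hQ⟩ := IsPGroup.exists_le_sylow (p := 5)
    (IsPGroup.of_card (n := 1) (G := ↥(Subgroup.zpowers y)) (by rw [Nat.card_zpowers, hy]; rfl))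
  obtain ⟨g, hg⟩ := MulAction.exists_smul_eq G Q (Sylow.ofCard f.range hcard)
  have hyQ : g * y * g⁻¹ ∈ f.range := by
    have h1 : g * y * g⁻¹ ∈ ((g • Q : Sylow 5 G) : Subgroup G) := by
      rw [Sylow.coe_subgroup_smul]
      exact ⟨y, hQ (Subgroup.mem_zpowers y), rfl⟩
    rwa [hg] at h1
  obtain ⟨⟨⟨p, hp⟩, ⟨q, hq⟩⟩, e⟩ := hyQ
  obtain ⟨i, rfl⟩ := (IsOfFinOrder.mem_powers_iff_mem_zpowers (isOfFinOrder_of_finite a)).2 hp
  obtain ⟨j, rfl⟩ := (IsOfFinOrder.mem_powers_iff_mem_zpowers (isOfFinOrder_of_finite b)).2 hq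
  refine IsConj.trans ?_ (isConj_iff.2 ⟨g, rfl⟩).symm
  rw [← e]
  show IsConj a (a ^ i * b ^ j)
  rw [hpa, hpb]
  refine hall _ _ (Nat.mod_lt _ (by norm_num)) (Nat.mod_lt _ (by norm_num)) fun h0 => ?_
  have h1 : g * y * g⁻¹ = 1 := by
    rw [← e]
    show a ^ i * b ^ j = 1
    rw [hpa, hpb, h0.1, h0.2]; simp
  rw [conj_eq_one_iff] at h1
  rw [h1, orderOf_one] at hy
  norm_num at hy

/-- The words give the facts needed in the Fischer group. -/
theorem fi_facts : ∃ a b s h k l : Cfsg.Spor.Fi22, orderOf a = 5 ∧ orderOf b = 5 ∧ Commute a b ∧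
    b ∉ Subgroup.zpowers a ∧ s * a * s⁻¹ = b ∧ h * a * h⁻¹ = a * b ∧ k * a * k⁻¹ = a * a ∧
    k * b * k⁻¹ = b ∧ l * b * l⁻¹ = b * b ∧ l * a * l⁻¹ = a := by
  have c := fuse_checks
  simp only [Bool.and_eq_true, Bool.not_eq_true', List.all_eq_true, Nat.blt_eq] at c
  obtain ⟨⟨⟨⟨⟨⟨⟨⟨⟨⟨⟨⟨⟨cA, cB⟩, cC⟩, cS⟩, cH⟩, cKa⟩, cKb⟩, cLb⟩, cLa⟩, mA⟩, fA⟩, mB⟩, lA⟩, lB⟩ := c
  have sim : ∀ {u v w : List ℕ}, sameBase (u ++ w) (w ++ v) = true →
      act fiGen w * act fiGen u * (act fiGen w)⁻¹ = act fiGen v := by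
    intro u v w h
    have e := eq_of_base h
    rw [act_append, act_append] at e
    rw [e, mul_inv_cancel_right]
  set a := act fiGen wA with hadef
  set b := act fiGen wB with hbdef
  have hab : b * a = a * b := by
    have e := eq_of_base cC
    rwa [act_append, act_append] at e
  have pw : ∀ {w : List ℕ}, sameBase (w ++ w ++ w ++ w ++ w) [] = true →
      act fiGen w ^ 5 = 1 := by
    intro w h
    have e := eq_of_base h
    simp only [act_append, act_nil] at e
    rw [← e]; simp [pow_succ, mul_assoc]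
  haveI : Fact (Nat.Prime 5) := ⟨by norm_num⟩
  have moved : ∀ {w : List ℕ} {q : ℕ} (hq : q < tab.n), (∀ g ∈ w, g < 9) →
      Nat.beq (tab.walk q w) q = false → phi (act fiGen w) ⟨q, hq⟩ ≠ ⟨q, hq⟩ := by
    intro w q hq hw h e
    have := congrArg Fin.val e
    rw [realised.act_apply hw] at this
    rw [this] at h
    simp at h
  have hn : ∀ q, q < 3510 → q < tab.n := fun q h => by rw [CfsgLib.Fi22P.tab_n]; exact h
  refine ⟨a, b, act fiGen wS, act fiGen wH, act fiGen wKa, act fiGen wKb,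
    orderOf_eq_prime (pw cA) fun e => moved (hn _ (by norm_num)) lA mA (by
      rw [← hadef, e, map_one]; rfl),
    orderOf_eq_prime (pw cB) fun e => moved (hn _ (by norm_num)) lB mB (by
      rw [← hbdef, e, map_one]; rfl),
    hab.symm, ?_, sim cS, ?_, ?_, sim cKb, ?_, sim cLa⟩
  · intro hb
    refine moved (hn _ (by norm_num)) lB mB ?_
    rw [← hbdef]
    have hle : Subgroup.zpowers a ≤ Subgroup.comap phi (MulAction.stabilizer
      (Equiv.Perm (Fin tab.n)) (⟨88, hn _ (by norm_num)⟩ : Fin tab.n)) := by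
      refine Subgroup.zpowers_le.2 ?_
      rw [Subgroup.mem_comap, MulAction.mem_stabilizer_iff]
      refine Fin.ext ?_
      rw [Equiv.Perm.smul_def, hadef, realised.act_apply lA]
      simpa [Nat.beq_eq] using fA
    exact hle hb
  · have := sim cH
    rw [act_append] at this
    rw [this, hab]
  · have := sim cKa
    rwa [act_append] at this
  · have := sim cLb
    rwa [act_append] at this

variable {F : Type v} [Field F] [Fintype F] (K : Fld F) (C : Ctx F 2)

include K C in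
/-- All elements of order five are conjugate. -/
theorem conj_five {x y : ↥(twistedE6 F 2)} (hx : orderOf x = 5) (hy : orderOf y = 5) :
    IsConj x y := by
  obtain ⟨a, b, s, h, k, l, ha, hb, hab, hne, hs, hh, hk, hk', hl, hl'⟩ := fi_facts
  let ψ : Cfsg.Spor.Fi22 →* ↥(twistedE6 F 2) := (E6Fi22.toGL K).codRestrict _ fun g =>
    E6Fi22.range_le K C ⟨g, rfl⟩
  have hψ : Function.Injective ψ := fun p q e =>
    E6Fi22.toGL_injective K (congrArg Subtype.val e)
  haveI : Fintype (GL chevE6.Idx F) := Fintype.ofFinite _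
  have hG : (Nat.card ↥(twistedE6 F 2)).factorization 5 = 2 := by
    have hc := C.card_twisted
    norm_num at hc
    have e : Nat.card ↥(twistedE6 F 2) =
        5 ^ 2 * (Nat.card ↥(twistedE6 F 2) / 25) := by omega
    rw [e, Nat.factorization_mul (by norm_num) (by omega), Finsupp.add_apply,
      Nat.Prime.factorization_pow (by norm_num), Finsupp.single_eq_same,
      Nat.factorization_eq_zero_of_not_dvd (by omega)]
  have key : ∀ z : ↥(twistedE6 F 2), orderOf z = 5 → IsConj (ψ a) z := fun z hz =>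
    fusion ((orderOf_injective ψ hψ a).trans ha) ((orderOf_injective ψ hψ b).trans hb)
      (hab.map ψ) (fun hm => hne (by
        rw [← MonoidHom.map_zpowers] at hm
        obtain ⟨c, hc, e⟩ := Subgroup.mem_map.1 hm
        exact hψ e ▸ hc))
      (s := ψ s) (h := ψ h) (k := ψ k) (l := ψ l)
      (by rw [← map_inv, ← map_mul, ← map_mul, hs])
      (by rw [← map_inv, ← map_mul, ← map_mul, hh, map_mul])
      (by rw [← map_inv, ← map_mul, ← map_mul, hk, map_mul])
      (by rw [← map_inv, ← map_mul, ← map_mul, hk'])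
      (by rw [← map_inv, ← map_mul, ← map_mul, hl, map_mul])
      (by rw [← map_inv, ← map_mul, ← map_mul, hl']) hG hz
  exact (key x hx).symm.trans (key y hy)

end CfsgLib.Chev.E6Five
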