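import Cfsg.Agent.Lib.Fi22P.PermCheck

/-!
# A commuting pair of elements of order five of Fi₂₂ and conjugating words
-/

set_option autoImplicit false
set_option maxRecDepth 100000

namespace CfsgLib.Chev.E6Five

open CfsgLib.Fi22P (sameBase tab)

/-- The first element. -/
def wA : List ℕ := [0, 1, 0, 1, 1, 2, 0, 1, 0, 1, 0, 2, 1, 2, 3, 1, 2, 0, 1, 0, 1, 0, 2, 1, 3, 2]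

/-- The second element. -/
def wB : List ℕ := [4, 5, 3, 4, 2, 3, 1, 2, 0, 1, 0, 1, 0, 2, 1, 3, 2, 4, 3, 5, 4, 6, 4, 5, 3, 4, 2, 3, 1, 2, 0, 1, 0, 1, 0, 2, 1, 3, 2, 4, 3, 5, 4, 6, 4, 3, 7, 2, 3, 4, 1, 2, 3, 7, 6, 5, 4, 3, 2, 1, 0, 1, 2, 3, 4, 5, 6, 7, 3, 2, 1, 4, 3, 2, 7, 3, 4, 7, 8, 3, 7, 2, 3, 1, 2, 0, 1, 0, 1, 0, 2, 1, 3, 2, 7, 3, 8, 7]

/-- Conjugates the first to the second. -/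
def wS : List ℕ := [4, 3, 2, 1, 0, 1, 2, 3, 4, 5, 4, 3, 2, 0, 1, 0, 1, 0, 2, 3, 4, 5, 6, 5, 4, 3, 1, 2, 0, 1, 0, 1, 0, 2, 1, 3, 4, 5, 6, 8, 3, 7, 4, 5, 3, 4, 2, 3, 7, 6, 5, 4, 3, 2, 1, 0, 1, 2, 3, 4, 5, 6, 7, 3, 2, 4, 3, 5, 4, 7, 3, 8, 1, 2, 3, 7, 8, 3, 4, 5, 2, 3, 4, 1, 2, 3, 7, 6, 5, 4, 3, 2, 1, 0, 1, 2, 3, 4, 5, 6, 7, 3, 2, 1, 4, 3, 2, 5, 4, 3, 8, 7, 3, 2, 1, 7, 4, 5, 3, 4, 2, 3, 7, 6, 5, 4, 3, 2, 1, 0, 1, 2, 3, 4, 5, 6, 7, 3, 2, 4, 3, 5, 4, 7]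

/-- Conjugates the first to the product. -/
def wH : List ℕ := [7, 8, 3, 7, 4, 5, 2, 3, 4, 0, 1, 2, 3, 7, 8, 4, 5, 2, 3, 4, 1, 2, 3, 7, 6, 5, 4, 3, 2, 1, 0, 1, 2, 3, 4, 5, 6, 7, 3, 2, 1, 4, 3, 2, 5, 4, 8, 7, 3, 2, 1, 0, 4, 3, 2, 5, 4, 7, 3, 8, 7, 8, 7, 3, 1, 2, 0, 1, 0, 1, 0, 2, 1, 3, 7, 8, 3, 7, 5, 2, 3, 4, 1, 2, 3, 7, 8, 4, 5, 2, 3, 4, 1, 2, 3, 7, 6, 5, 4, 3, 2, 1, 0, 1, 2, 3, 4, 5, 6, 7, 3, 2, 1, 4, 3, 2, 5, 4, 8, 7, 3, 2, 1, 4, 3, 2, 5, 7, 3, 5, 4, 1, 2, 3, 7, 8, 5, 4, 2, 3, 7, 6, 5, 4, 3, 2, 0, 1, 0, 1, 0, 2, 3, 4, 5, 6, 7, 3, 2, 4, 5, 8, 7, 3, 2, 1, 4, 5, 7, 8, 6, 5, 4, 3, 7, 2, 3, 4, 1, 2, 3, 7, 8, 3, 4, 5, 2, 3, 4, 1, 2, 3, 7, 6, 5, 4, 3, 2, 1, 0, 1, 2, 3, 4, 5, 6, 7, 3, 2, 1, 4, 3, 2, 5, 4, 3,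 8, 7, 3, 2, 1, 4, 3, 2, 7, 3, 4, 5, 6, 8, 7, 0, 1, 2, 3, 7, 8, 5, 4, 1, 2, 3, 7, 6, 5, 4, 3, 2, 1, 0, 1, 2, 3, 4, 5, 6, 7, 3, 2, 1, 4, 5, 8, 7, 3, 2, 1, 0, 3, 7, 8, 4, 3, 7, 4, 5, 1, 2, 3, 4, 0, 1, 2, 3, 7, 8, 4, 5, 2, 3, 4, 1, 2, 3, 7, 6, 5, 4, 3, 2, 1, 0, 1, 2, 3, 4, 5, 6, 7, 3, 2, 1, 4, 3, 2, 5, 4, 8, 7, 3, 2, 1, 0, 4, 3, 2, 1, 5, 4, 7, 3, 4, 8, 7, 3]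

/-- Squares the first and fixes the second. -/
def wKa : List ℕ := [1, 0, 1, 0, 1, 2, 0, 1, 0, 1, 0, 2, 1]

/-- Squares the second and fixes the first. -/
def wKb : List ℕ := [6, 4, 5, 3, 4, 2, 3, 1, 2, 0, 1, 0, 1, 0, 2, 1, 3, 2, 4, 3, 5, 4, 6, 4, 5, 3, 4, 2, 3, 1, 2, 0, 1, 0, 1, 0, 2, 1, 3, 2, 4, 3, 5, 4, 4, 3, 7, 2, 3, 4, 1, 2, 3, 7, 6, 5, 4, 3, 2, 1, 0, 1, 2, 3, 4, 5, 6, 7, 3, 2, 1, 4, 3, 2, 7, 3, 4]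

theorem fuse_checks : (sameBase (wA ++ wA ++ wA ++ wA ++ wA) [] &&
    sameBase (wB ++ wB ++ wB ++ wB ++ wB) [] &&
    sameBase (wA ++ wB) (wB ++ wA) &&
    sameBase (wA ++ wS) (wS ++ wB) &&
    sameBase (wA ++ wH) (wH ++ (wA ++ wB)) &&
    sameBase (wA ++ wKa) (wKa ++ (wA ++ wA)) && sameBase (wB ++ wKa) (wKa ++ wB) &&
    sameBase (wB ++ wKb) (wKb ++ (wB ++ wB)) && sameBase (wA ++ wKb) (wKb ++ wA) &&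
    !Nat.beq (tab.walk 0 wA) 0 && Nat.beq (tab.walk 88 wA) 88 &&
    !Nat.beq (tab.walk 88 wB) 88 &&
    wA.all (fun g => Nat.blt g 9) && wB.all (fun g => Nat.blt g 9)) = true := by
  decide +kernel

end CfsgLib.Chev.E6Five
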