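import Cfsg.Agent.Lib.Chev.E6Five.Base

/-!
# The twisted Levi subgroup SL₂(4) of the orbit of end nodes

Its embedding in ²E₆(2), the fixed elements of the parabolic subgroup, and the torus.
-/

set_option autoImplicit false
set_option maxRecDepth 100000
set_option Elab.async false

namespace CfsgLib.Chev.E6Five

open Cfsg.Lie CfsgLib.Chev CfsgLib.Chev.TwE6
open scoped MatrixGroups

universe v

variable {K : Type v} [Field K] [Fintype K] (C : TwE6.Ctx K 2) (C4 : CfsgLib.J3.Fld K)

omit [Fintype K] in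
theorem map_upM (f : K →+* K) (t : K) :
    Matrix.SpecialLinearGroup.map f (upM t) = upM (f t) := by
  refine Subtype.ext ?_
  ext i j
  show f ((upM t : SL(2, K)) i j) = (upM (f t) : SL(2, K)) i j
  fin_cases i <;> fin_cases j <;> simp [upM]

omit [Fintype K] in
theorem map_loT (f : K →+* K) (t : K) :
    Matrix.SpecialLinearGroup.map f (loT t) = loT (f t) := by
  refine Subtype.ext ?_
  ext i j
  show f ((loT t : SL(2, K)) i j) = (loT (f t) : SL(2, K)) i j
  fin_cases i <;> fin_cases j <;> simp [loT]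

theorem lev_rho_tab : parE6.rho 56 = 36 ∧ parE6.rho 36 = 56 ∧ parE6.rho 15 = 35 ∧
    parE6.rho 35 = 15 ∧ parE6.eps 56 = 1 ∧ parE6.eps 36 = 1 ∧ parE6.eps 15 = 1 ∧
    parE6.eps 35 = 1 := by decide +kernel

theorem rad_rho_tab : ∀ r < 72, Rad r → Rad (parE6.rho r) := by decide +kernel

include C in
theorem img_root {r s : ℕ} (hr : r < 72) (hs : parE6.rho r = s) (he : parE6.eps r = 1) (t : K) :
    Img C.σ (xU chevE6 r t) (xU chevE6 s (C.f t)) := by
  have h := C.sig.img_xU (lt_nr hr) t
  rwa [hs, TwPar.coef, he, show parE6.lam r = 1 from rfl, Int.cast_one, one_mul, pow_one] at h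

include C in
theorem img_pair (p : SL(2, K) × SL(2, K)) :
    Img C.σ (pairHom p) (pairHom (Matrix.SpecialLinearGroup.map C.f p.2,
      Matrix.SpecialLinearGroup.map C.f p.1)) := by
  obtain ⟨a, b⟩ := p
  obtain ⟨r1, r2, r3, r4, e1, e2, e3, e4⟩ := lev_rho_tab
  have h1 : Img C.σ (phiR 56 (by norm_num) a)
      (phiR 36 (by norm_num) (Matrix.SpecialLinearGroup.map C.f a)) := by
    induction a using sl2_induction with
    | one => simpa using Img.one (σ := C.σ)
    | mul x y hx hy => simpa only [map_mul] using hx.mul hy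
    | up t => rw [map_upM, phiR_up, phiR_up]; exact img_root C (by norm_num) r1 e1 t
    | lo t =>
      rw [map_loT, phiR_lo, phiR_lo, neg_tab.1, neg_tab.2]
      exact img_root C (by norm_num) r3 e3 t
  have h2 : Img C.σ (phiR 36 (by norm_num) b)
      (phiR 56 (by norm_num) (Matrix.SpecialLinearGroup.map C.f b)) := by
    induction b using sl2_induction with
    | one => simpa using Img.one (σ := C.σ)
    | mul x y hx hy => simpa only [map_mul] using hx.mul hy
    | up t => rw [map_upM, phiR_up, phiR_up]; exact img_root C (by norm_num) r2 e2 t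
    | lo t =>
      rw [map_loT, phiR_lo, phiR_lo, neg_tab.1, neg_tab.2]
      exact img_root C (by norm_num) r4 e4 t
  rw [pairHom_apply, pairHom_apply]
  have h3 := h1.mul h2
  rwa [(phiR_commute (Matrix.SpecialLinearGroup.map C.f b)
    (Matrix.SpecialLinearGroup.map C.f a)).eq]

/-- The twisted Levi subgroup. -/
noncomputable def phiT : SL(2, K) →* GL chevE6.Idx K :=
  pairHom.comp ((MonoidHom.id _).prod (Matrix.SpecialLinearGroup.map C.f))

theorem phiT_apply (g : SL(2, K)) :
    phiT C g = pairHom (g, Matrix.SpecialLinearGroup.map C.f g) := rfl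

theorem phiT_mem (g : SL(2, K)) : phiT C g ∈ twistedE6 K 2 := by
  have h56 : e6p1 = 56 := by decide +kernel
  have h36 : e6p6 = 36 := rfl
  have h15 : e6m1 = 15 := rfl
  have h35 : e6m6 = 35 := rfl
  induction g using sl2_induction with
  | one => rw [map_one]; exact Subgroup.one_mem _
  | mul x y hx hy => rw [map_mul]; exact Subgroup.mul_mem _ hx hy
  | up t =>
    rw [phiT_apply, pairHom_apply, map_upM, phiR_up, phiR_up]
    have := C.two_mem (rs := (e6p1, e6p6)) (by simp) t
    simpa [h56, h36] using this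
  | lo t =>
    rw [phiT_apply, pairHom_apply, map_loT, phiR_lo, phiR_lo, neg_tab.1, neg_tab.2]
    have := C.two_mem (rs := (e6m1, e6m6)) (by simp) t
    simpa [h15, h35] using this

theorem phiT_mem_par (g : SL(2, K)) : phiT C g ∈ Par := pairHom_mem_par _

include C4 in
theorem phiT_injective : Function.Injective (phiT C) := fun a b h =>
  congrArg Prod.fst (pairHom_injective (C4 := C4) h)

include C C4 in
/-- A fixed element of the parabolic subgroup has twisted Levi part. -/
theorem par_fixed {g : GL chevE6.Idx K} (hg : g ∈ fixS C.σ) (hP : g ∈ Par) :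
    ∃ v, v ∈ fixS C.σ ∧ v ∈ rootClosure chevE6 K Rad ∧ ∃ l, g = v * phiT C l := by
  obtain ⟨v, hv, ⟨a, b⟩, rfl⟩ := hP
  obtain ⟨v', hv', ev⟩ := C.sig.img_rootClosure (B := Rad)
    (fun r hr h => rad_rho_tab r (nr ▸ hr) h) hv
  have h := (ev.mul (img_pair C (a, b))).unique hg
  obtain ⟨e1, e2⟩ := par_unique (C4 := C4) hv' hv h
  rw [Prod.mk.injEq] at e2
  refine ⟨v, e1 ▸ ev, hv, a, ?_⟩
  rw [phiT_apply, e2.2]

/-- The element of order five. -/
noncomputable def xF : GL chevE6.Idx K := phiT C (mFive C4)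

theorem orderOf_xF : orderOf (xF C C4) = 5 :=
  (orderOf_injective _ (phiT_injective C C4) _).trans (orderOf_mFive C4)

theorem xF_mem : xF C C4 ∈ twistedE6 K 2 := phiT_mem C _

include C C4 in
/-- The torus lies in the Levi subgroup. -/
theorem diag_mem_range {h : GL chevE6.Idx K} (hd : h ∈ chevE6.diagonalSubgroup K)
    (hG : h ∈ twistedE6 K 2) : ∃ a : Kˣ, h = phiT C (dM (a : K)) := by
  set T : Subgroup (GL chevE6.Idx K) := chevE6.diagonalSubgroup K ⊓ twistedE6 K 2 with hT
  have hc : Nat.card ↥T = 3 := by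
    have h := C.card_torus
    rw [show Nat.gcd 3 (2 + 1) = 3 from rfl, ← hT] at h
    omega
  have hd' : ∀ a : Kˣ, phiT C (dM (a : K)) ∈ T := fun a => by
    refine ⟨?_, phiT_mem C _⟩
    have e : Matrix.SpecialLinearGroup.map C.f (dM (a : K)) = dM (C.f a) := by
      simp only [dM, nM, map_mul, map_upM, map_loT, map_neg, map_inv₀, map_one]
    rw [phiT_apply, pairHom_apply, e, phiR_dM, phiR_dM]
    exact Subgroup.mul_mem _ (fE.hU_mem_diagonal (lt_nr (by norm_num)) (Units.ne_zero a))
      (fE.hU_mem_diagonal (lt_nr (by norm_num)) ((map_ne_zero _).2 (Units.ne_zero a)))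
  let f : Kˣ → ↥T := fun a => ⟨_, hd' a⟩
  have hinj : Function.Injective f := fun a b e => by
    have e1 := congrArg (fun g : SL(2, K) => g 0 0) (phiT_injective C C4 (congrArg Subtype.val e))
    simp only [dM_val (Units.ne_zero a), dM_val (Units.ne_zero b)] at e1
    exact Units.ext (by simpa using e1)
  haveI : Finite ↥T := Nat.finite_of_card_ne_zero (by rw [hc]; norm_num)
  have hb := hinj.bijective_of_nat_card_le (by
    rw [hc, Nat.card_units, Nat.card_eq_fintype_card, C.card]
    norm_num)
  obtain ⟨a, ha⟩ := hb.2 ⟨h, hd, hG⟩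
  exact ⟨a, (congrArg Subtype.val ha).symm⟩

end CfsgLib.Chev.E6Five
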