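import Cfsg.Agent.Lib.Chev.E6Five.Twist
import Cfsg.Agent.Lib.Chev.E6Five.WeylData

/-!
# The fixed Weyl group: exact representatives and the orbit of ten roots

In characteristic two the standard representatives permute the root elements exactly. The images
of ten roots determine an element of the fixed Weyl group; they run over a table of 1152 states.
-/

set_option autoImplicit false
set_option maxRecDepth 100000
set_option Elab.async false

namespace CfsgLib.Chev.E6Five

open Cfsg.Lie CfsgLib.Chev CfsgLib.Chev.TwE6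

universe v

variable {K : Type v} [Field K]

theorem nS_exact (C4 : CfsgLib.J3.Fld K) (i : Fin chevE6.rank) (s : Fin chevE6.nroots) (t : K) :
    nS chevE6 K i * xU chevE6 s.val t * (nS chevE6 K i)⁻¹ =
      xU chevE6 (sP chevE6 i s).val t := by
  obtain ⟨η, h1, -, h3⟩ := fE.exists_eta (F := K) i.isLt
  rw [nS, h3 _ s.isLt, mul_inv_cancel_right, fE.sP_val]
  rcases h1 _ s.isLt with h | h <;> rw [h]
  · simp
  · rw [Int.cast_neg, Int.cast_one, neg_one_mul, neg_eq C4]

theorem nW_exact (C4 : CfsgLib.J3.Fld K) : ∀ (l : List (Fin chevE6.rank))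
    (s : Fin chevE6.nroots) (t : K),
    nW chevE6 K l * xU chevE6 s.val t * (nW chevE6 K l)⁻¹ = xU chevE6 (sW chevE6 l s).val t
  | [], s, t => by simp [nW_nil, sW_nil]
  | j :: l, s, t => by
    rw [nW_cons, sW_cons, Equiv.Perm.mul_apply, ← nS_exact C4 j (sW chevE6 l s) t,
      ← nW_exact C4 l s t]
    group

variable [Fintype K] (C : TwE6.Ctx K 2)

/-- A representative permuting the root elements exactly. -/
structure ExactRep (w : Equiv.Perm (Fin chevE6.nroots)) (n : GL chevE6.Idx K) : Prop where
  mem : n ∈ twistedE6 K 2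
  mono : n ∈ chevE6.monomialSubgroup K
  act : PermAct n w
  exact_conj : ∀ (r : Fin chevE6.nroots) (t : K),
    n * xU chevE6 r.val t * n⁻¹ = xU chevE6 (w r).val t

include C in
theorem exists_exactRep (C4 : CfsgLib.J3.Fld K) {w : Equiv.Perm (Fin chevE6.nroots)}
    {l : List (Fin chevE6.rank)} (hl : w = sW chevE6 l) (hw : C.sys.sig.WFix w) :
    ∃ n, ExactRep (K := K) w n := by
  refine C.sys.w_induction (motive := fun w => ∃ n, ExactRep (K := K) w n) ?_ ?_ w l hl hw
  · exact ⟨1, Subgroup.one_mem _, Subgroup.one_mem _,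
      fE.permAct_diagonal (Subgroup.one_mem _), fun r t => by simp⟩
  · rintro w l o - - - ⟨n, h⟩
    have hm := fE.nW_mem (F := K) (O o).word
    refine ⟨n * nW chevE6 K (O o).word, Subgroup.mul_mem _ h.mem (C.nW_mem_G o),
      Subgroup.mul_mem _ h.mono hm, ?_, fun r t => ?_⟩
    · have := fE.permAct_mul h.act (fE.permAct_nW (O o).word)
      rwa [mul_assoc, show sW chevE6 (O o).word = (O o).wO from rfl, C.sys.orb.sq o, mul_one] at this
    · have h2 := h.exact_conj (sW chevE6 (O o).word r) t
      rw [← nW_exact C4 (O o).word r t] at h2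
      rw [show w r = (w * (O o).wO) (sW chevE6 (O o).word r) by
        rw [show sW chevE6 (O o).word = (O o).wO from rfl, Equiv.Perm.mul_apply,
          ← Equiv.Perm.mul_apply ((O o).wO), C.sys.orb.sq o, Equiv.Perm.one_apply], ← h2]
      group

/-- The ten roots. -/
def base : List ℕ := [56, 46, 42, 39, 37, 36, 47, 69, 70, 71]

theorem base_lt : ∀ r ∈ base, r < chevE6.nroots := by decide +kernel

/-- The state of an element. -/
def state (w : Equiv.Perm (Fin chevE6.nroots)) : List ℕ :=
  base.attach.map fun r => (w ⟨r.1, base_lt r.1 r.2⟩).val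

/-- A state of the table. -/
def stAt (k : ℕ) : List ℕ × List ℕ := (states.getD (k / 32) []).getD (k % 32) ([], [])

theorem step_chk : (List.range 1152).all (fun k => (List.range 4).all fun o =>
    Nat.blt ((stAt k).2.getD o 2000) 1152 &&
      ((stAt k).1.map (fun r => (gTab.getD o []).getD r 72) ==
        (stAt ((stAt k).2.getD o 2000)).1)) = true := by decide +kernel

theorem gTab_chk : ∀ o : Fin spec.length, ∀ r < 72,
    (gTab.getD o.val []).getD r 72 =
      ((O o).word.map Fin.val).foldr (fun i x => chevE6.reflectRoot i x) r := by decide +kernel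

theorem start_chk : (stAt 0).1 = base := by decide +kernel

theorem good_chk : (List.range 1152).all (fun k =>
    !((stAt k).1.getD 0 0 == 56) || good.contains (stAt k).1) = true := by decide +kernel

/-- Every fixed element has a state in the table. -/
theorem exists_state (w : Equiv.Perm (Fin chevE6.nroots)) {l : List (Fin chevE6.rank)}
    (hl : w = sW chevE6 l) (hw : C.sys.sig.WFix w) :
    ∃ k < 1152, state w = (stAt k).1 := by
  have key : ∀ (v : Equiv.Perm (Fin chevE6.nroots)) (m : List (Fin chevE6.rank)),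
      v = sW chevE6 m → C.sys.sig.WFix v → ∃ k < 1152, state v⁻¹ = (stAt k).1 := by
    refine C.sys.w_induction
      (motive := fun v => ∃ k < 1152, state v⁻¹ = (stAt k).1) ?_ ?_
    · refine ⟨0, by norm_num, ?_⟩
      rw [start_chk, inv_one]
      simp [state]
    · rintro v m o - - - ⟨k, hk, e⟩
      have h := step_chk
      simp only [List.all_eq_true, List.mem_range, Bool.and_eq_true, Nat.blt_eq,
        beq_iff_eq] at h
      obtain ⟨h1, h2⟩ := h k hk o.val o.isLt
      refine ⟨_, h1, ?_⟩
      rw [← h2, ← e]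
      simp only [state, List.map_map]
      refine List.map_congr_left fun r _ => ?_
      simp only [Function.comp_apply]
      rw [gTab_chk o _ (nr ▸ ((v * (O o).wO)⁻¹ ⟨r.1, base_lt r.1 r.2⟩).isLt),
        ← fE.sW_val_foldr]
      refine congrArg Fin.val ?_
      show v⁻¹ _ = (O o).wO ((v * (O o).wO)⁻¹ _)
      rw [mul_inv_rev, C.sys.wO_inv, Equiv.Perm.mul_apply, ← Equiv.Perm.mul_apply ((O o).wO),
        C.sys.orb.sq o, Equiv.Perm.one_apply]
  have := key w⁻¹ l.reverse (by rw [fE.sW_reverse, hl]) (C.sys.sig.wfix_inv hw)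
  rwa [inv_inv] at this

include C in
theorem mem_good {w : Equiv.Perm (Fin chevE6.nroots)} (hw : w ∈ C.sys.wFix)
    (h56 : (w ⟨56, lt_nr (by norm_num)⟩).val = 56) : state w ∈ good := by
  obtain ⟨⟨l, hl⟩, hf⟩ := C.sys.mem_wFix.1 hw
  obtain ⟨k, hk, e⟩ := exists_state C w hl hf
  have h := good_chk
  simp only [List.all_eq_true, List.mem_range, Bool.or_eq_true, Bool.not_eq_true',
    beq_eq_false_iff_ne, List.contains_iff_mem] at h
  have h0 : (state w).getD 0 0 = 56 := h56
  rw [e] at h0 ⊢
  exact (h k hk).resolve_left (fun hne => hne h0)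

include C in
theorem state_injOn : Set.InjOn state (↑C.sys.wFix : Set (Equiv.Perm (Fin chevE6.nroots))) := by
  intro v hv w hw e
  obtain ⟨⟨l, rfl⟩, -⟩ := C.sys.mem_wFix.1 (Finset.mem_coe.1 hv)
  obtain ⟨⟨m, rfl⟩, -⟩ := C.sys.mem_wFix.1 (Finset.mem_coe.1 hw)
  refine fE.sW_ext fun i => ?_
  have hb : chevE6.simple i.val ∈ base :=
    (show ∀ i < 6, chevE6.simple i ∈ base by decide +kernel) i.val i.isLt
  obtain ⟨j, hj, hje⟩ := List.getElem_of_mem hb
  have e' := congrArg (fun L => L.getD j 0) e
  simp only [state] at e'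
  rw [List.getD_eq_getElem _ _ (by simpa using hj), List.getD_eq_getElem _ _ (by simpa using hj)]
    at e'
  simp only [List.getElem_map, List.getElem_attach] at e'
  have e2 : (⟨base[j], base_lt _ (List.getElem_mem hj)⟩ : Fin chevE6.nroots) = fE.simpleFin i :=
    Fin.ext hje
  rw [e2] at e'
  exact Fin.ext e'

end CfsgLib.Chev.E6Five
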